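import Cfsg.Statements.S6001
import Cfsg.Agent.S6000
import Cfsg.Agent.Lib.SympFour.Unitary
import Cfsg.Agent.Lib.SympFour.UnitaryFive
import Mathlib

set_option autoImplicit false
open scoped MatrixGroups
open Cfsg

namespace Cfsg.Agent.S6001

open Matrix Cfsg.Agent.Lib.SympFour Cfsg.Agent.Lib.SympFour.UnitaryFour
open Cfsg.Agent.Lib.Classical (conjHom conjHom_apply conjHom_ne_id conjHom_conjHom)
open Cfsg.Agent.Lib.SuSpec (adj adj_mul adj_one adj_adj adj_add det_adj)
open Cfsg.Agent.Lib.Similar (mem_GU_adj exists_mul_tau)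

section

variable {F : Type*} [Field F] [Fintype F] {p : ℕ}

local notation "M" => Matrix (Fin 4) (Fin 4) F
local notation "G4" => GL (Fin 4) F
local notation "SUG" => Cfsg.GU 4 F p ⊓ Cfsg.Geo.specialLinear (Fin 4) F

theorem eq_one_of_coprime {r : ℕ} (hr : Nat.Coprime (p + 1) r) {c : F} (hn : c ^ (p + 1) = 1) (h : c ^ r = 1) :
    c = 1 := by
  simpa [hr.gcd_eq_one] using pow_gcd_eq_one.mpr ⟨hn, h⟩

/-- Removing a scalar from a unitary element with scalar power. -/
theorem exists_normalised (hF : Fintype.card F = p ^ 2) {r : ℕ} (hr : Nat.Coprime (p + 1) r) {x : G4}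
    (hx : x ∈ Cfsg.GU 4 F p) {z : F} (hz : ((x ^ r : G4) : M) = z • 1) :
    ∃ (d : F) (hd : d ≠ 0), (scal hd * x) ^ r = 1 ∧ scal hd * x ∈ SUG := by
  have hn : z ^ (p + 1) = 1 := pow_card_norm hF (scalar_norm hF (pow_mem hx r) hz)
  have hz0 : z ≠ 0 := fun e => by simp [e] at hn
  have hzi : (z⁻¹) ^ (p + 1) = 1 := by rw [inv_pow, hn, inv_one]
  obtain ⟨m, hm⟩ := exists_pow_eq_self_of_coprime (x := z⁻¹) (n := r)
    (Nat.Coprime.coprime_dvd_right (orderOf_dvd_of_pow_eq_one hzi) hr.symm)
  rw [← pow_mul, mul_comm, pow_mul] at hm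
  have hd : z⁻¹ ^ m ≠ 0 := pow_ne_zero _ (inv_ne_zero hz0)
  have hdn : (z⁻¹ ^ m) ^ (p + 1) = 1 := by rw [← pow_mul, mul_comm, pow_mul, hzi, one_pow]
  have hpow : (scal hd * x : G4) ^ r = 1 := Units.ext (by
    rw [Units.val_pow_eq_pow_val, Units.val_mul, scal_val, smul_mul_assoc, one_mul, _root_.smul_pow, hm,
      ← Units.val_pow_eq_pow_val, hz, smul_smul, inv_mul_cancel₀ hz0, one_smul, Units.val_one])
  have hU : scal hd * x ∈ Cfsg.GU 4 F p := mul_mem (scal_mem hF hd (norm_of_pow hF hdn)) hx
  refine ⟨_, hd, hpow, Subgroup.mem_inf.2 ⟨hU, mem_SL.2 (eq_one_of_coprime hr (pow_card_norm hF (det_norm hF hU)) ?_)⟩⟩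
  rw [← Matrix.det_pow, ← Units.val_pow_eq_pow_val, hpow, Units.val_one, Matrix.det_one]

/-- Unitary similitudes. -/
def Simil (hF : Fintype.card F = p ^ 2) (k : F) (A : M) : Prop := adj (conjHom hF) A * A = k • 1

theorem Simil.mul {hF : Fintype.card F = p ^ 2} {k l : F} {A B : M} (hA : Simil hF k A) (hB : Simil hF l B) :
    Simil hF (k * l) (A * B) := by
  rw [Simil, adj_mul, mul_assoc, ← mul_assoc (adj (conjHom hF) A), show adj (conjHom hF) A * A = k • 1 from hA,
    smul_mul_assoc, one_mul, mul_smul_comm, show adj (conjHom hF) B * B = l • 1 from hB, smul_smul]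

theorem simil_scal (hF : Fintype.card F = p ^ 2) {c : F} (hc : c ≠ 0) :
    Simil hF (conjHom hF c * c) ((scal (ι := Fin 4) hc : G4) : M) := by
  rw [Simil, scal_val, adj_smul, adj_one, smul_mul_smul_comm, one_mul]

theorem simil_onePlus (hF : Fintype.card F = p ^ 2) (h2 : (2 : F) ≠ 0) {a : G4} (ha : a ∈ Cfsg.GU 4 F p)
    (haa : (a : M) * a = -1) : Simil hF 2 ((onePlus h2 (a : M) haa : G4) : M) := by
  have hi : ((a⁻¹ : G4) : M) = -(a : M) := by
    calc ((a⁻¹ : G4) : M) = ((a⁻¹ : G4) : M) * -((a : M) * a) := by rw [haa, neg_neg, mul_one]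
      _ = _ := by rw [mul_neg, ← mul_assoc, Units.inv_mul, one_mul]
  rw [Simil, onePlus_val, adj_add, adj_one, adj_eq_inv hF ha, hi]
  simp only [add_mul, mul_add, one_mul, mul_one, neg_mul, haa, neg_neg]
  module

theorem Simil.mem {hF : Fintype.card F = p ^ 2} {k : F} {g : G4} (h : Simil hF k (g : M)) (hk : k = 1) :
    g ∈ Cfsg.GU 4 F p := (mem_GU_adj hF g).2 (by rw [show adj (conjHom hF) (g : M) * g = k • 1 from h, hk, one_smul])

variable [Fact p.Prime] [CharP F p]

/-- The unitary elements of order three. -/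
theorem three_class (hF : Fintype.card F = p ^ 2) (hp : 5 ≤ p) {ω : F} (hω : ω * ω + ω + 1 = 0)
    (hωσ : conjHom hF ω = ω) {X : G4} (hX : X ∈ Cfsg.GU 4 F p) (hX3 : (X : M) * X * X = 1) (hX1 : (X : M) ≠ 1) :
    ((X : M).trace = -2 ∧ (X : M) * X + X + 1 = 0) ∨ ((X : M).trace = 1 ∧ (X : M) * X + X + 1 ≠ 0) := by
  classical
  have h3 : (3 : F) ≠ 0 := fun e => by
    have := (CharP.cast_eq_zero_iff F p 3).mp (by exact_mod_cast e)
    exact absurd (Nat.le_of_dvd (by norm_num) this) (by omega)
  have h2 : (2 : F) ≠ 0 := fun e => by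
    have := (CharP.cast_eq_zero_iff F p 2).mp (by exact_mod_cast e)
    exact absurd (Nat.le_of_dvd (by norm_num) this) (by omega)
  have hω1 : ω ≠ 1 := fun e => h3 (by rw [e] at hω; linear_combination hω)
  have hω3 : ω ^ 3 = 1 := by linear_combination (ω - 1) * hω
  have hωω : ω * ω ≠ 1 := fun e => hω1 (by linear_combination hω3 - ω * e)
  have hne : ω ≠ ω * ω := fun e => hω1 (by linear_combination hω3 - (1 + ω) * (-e))
  obtain ⟨P, d, hP, hd, hPN⟩ := exists_basis_three h3 hω hX3
  have hu : IsUnit P.det := isUnit_iff_ne_zero.mpr hP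
  have hd3 : ∀ j, d j = 1 ∨ d j = ω ∨ d j = ω * ω := by
    intro j
    have h : (d j - 1) * ((d j - ω) * (d j - ω * ω)) = 0 := by
      linear_combination hd j + (-(d j) ^ 2 + d j) * hω + (d j - 1) * hω3
    rcases mul_eq_zero.mp h with h | h
    · exact Or.inl (sub_eq_zero.mp h)
    · exact Or.inr ((mul_eq_zero.mp h).imp sub_eq_zero.mp sub_eq_zero.mp)
  have hσd : ∀ j, conjHom hF (d j) = d j := fun j => by
    rcases hd3 j with e | e | e <;> simp [e, hωσ]
  have hsq : (X : M) * X * P = P * Matrix.diagonal fun j => d j * d j := by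
    rw [mul_assoc, hPN, ← mul_assoc, hPN, mul_assoc, Matrix.diagonal_mul_diagonal]
  have hinv : ((X⁻¹ : G4) : M) = (X : M) * X :=
    left_inv_eq_right_inv (Units.inv_mul X) (by rw [← mul_assoc, hX3])
  have hS : ∑ j, d j * d j = ∑ j, d j := by
    rw [← Matrix.trace_diagonal, ← SLConj.trace_eq_of_basis hP hsq, ← hinv, trace_inv hF hX,
      SLConj.trace_eq_of_basis hP hPN, Matrix.trace_diagonal, map_sum]
    exact Finset.sum_congr rfl fun j _ => hσd j
  have cnt : ∀ μ : F, μ ^ 3 = 1 →
      (3 : F) * ((Finset.univ.filter fun j => d j = μ).card : F) = 4 + (μ * μ + μ) * ∑ j, d j := by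
    intro μ hμ
    rw [add_mul (μ * μ) μ, ← add_assoc]
    nth_rewrite 2 [← hS]
    rw [← Finset.sum_boole, Finset.mul_sum, Finset.mul_sum, Finset.mul_sum,
      show (4 : F) = ∑ _j : Fin 4, (1 : F) by simp, ← Finset.sum_add_distrib, ← Finset.sum_add_distrib]
    refine Finset.sum_congr rfl fun j _ => ?_
    split_ifs with hj
    · rw [hj, mul_one]; linear_combination (-2 : F) * hμ
    · have h0 : (d j - μ) * (d j * d j + μ * d j + μ * μ) = 0 := by linear_combination hd j - hμ
      have h0' := (mul_eq_zero.mp h0).resolve_left (sub_ne_zero.mpr hj)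
      rw [mul_zero]
      linear_combination (-μ) * h0' + hμ
  set A := Finset.univ.filter fun j => d j = ω
  set B := Finset.univ.filter fun j => d j = ω * ω
  have eA : (3 : F) * (A.card : F) = 4 - ∑ j, d j := by
    rw [cnt ω hω3, show ω * ω + ω = -1 by linear_combination hω]; ring
  have eB : (3 : F) * (B.card : F) = 4 - ∑ j, d j := by
    rw [cnt (ω * ω) (by linear_combination (ω ^ 3 + 1) * hω3),
      show ω * ω * (ω * ω) + ω * ω = -1 by linear_combination ω * hω3 + hω]
    ring
  have hle := Finset.card_le_univ (A ∪ B)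
  have hdisj : Disjoint A B := Finset.disjoint_filter.mpr fun j _ e e' => hne (e.symm.trans e')
  rw [Finset.card_union_of_disjoint hdisj, Fintype.card_fin] at hle
  have hAB : A.card = B.card := by
    have e' := mul_left_cancel₀ h3 (eA.trans eB.symm)
    rw [CharP.natCast_eq_natCast F p, Nat.ModEq] at e'
    rwa [Nat.mod_eq_of_lt (by omega), Nat.mod_eq_of_lt (by omega)] at e'
  rw [SLConj.trace_eq_of_basis hP hPN, Matrix.trace_diagonal]
  have hq : (X : M) * X + X + 1 = 0 → ∀ j, d j * d j + d j + 1 = 0 := by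
    intro e j
    have h : P * Matrix.diagonal (fun j => d j * d j + d j + 1) = 0 := by
      rw [← Matrix.diagonal_add, ← Matrix.diagonal_add, Matrix.diagonal_one, mul_add, mul_add, mul_one, ← hsq, ← hPN]
      have h' := congrArg (· * P) e
      simpa [add_mul] using h'
    have h' := congrArg (P⁻¹ * ·) h
    simp only [← mul_assoc, Matrix.nonsing_inv_mul _ hu, one_mul, mul_zero] at h'
    simpa using congrFun (congrFun h' j) j
  have hcard : A.card ≤ 2 := by omega
  interval_cases hA : A.card
  · exfalso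
    refine hX1 ?_
    have hd1 : d = fun _ => 1 := funext fun j => by
      rcases hd3 j with e | e | e
      · exact e
      · exact absurd (Finset.card_pos.mpr ⟨j, Finset.mem_filter.mpr ⟨Finset.mem_univ _, e⟩⟩ : 0 < A.card) (by omega)
      · exact absurd (Finset.card_pos.mpr ⟨j, Finset.mem_filter.mpr ⟨Finset.mem_univ _, e⟩⟩ : 0 < B.card) (by omega)
    rw [hd1, Matrix.diagonal_one, mul_one] at hPN
    rw [← Matrix.mul_nonsing_inv_cancel_right (A := P) (X : M) hu, hPN, Matrix.mul_nonsing_inv _ hu]
  · have hs : ∑ j, d j = 1 := by push_cast at eA; linear_combination eA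
    refine Or.inr ⟨hs, fun e => ?_⟩
    have h : ∑ j, (d j * d j + d j + 1) = 0 := Finset.sum_eq_zero fun j _ => hq e j
    rw [Finset.sum_add_distrib, Finset.sum_add_distrib, hS, hs, Finset.sum_const, Finset.card_univ, Fintype.card_fin,
      nsmul_eq_mul, Nat.cast_ofNat] at h
    exact mul_ne_zero h2 h3 (by linear_combination h)
  · have hs : ∑ j, d j = -2 := by push_cast at eA; linear_combination eA
    refine Or.inl ⟨hs, ?_⟩
    have hall : ∀ j, d j * d j + d j + 1 = 0 := by
      intro j
      rcases hd3 j with e | e | e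
      · exfalso
        have hU : (A ∪ B) = Finset.univ := Finset.eq_univ_of_card _ (by
          rw [Finset.card_union_of_disjoint hdisj, Fintype.card_fin]
          omega)
        have hj : j ∈ A ∪ B := hU ▸ Finset.mem_univ j
        rcases Finset.mem_union.mp hj with h | h
        · exact hω1 ((Finset.mem_filter.mp h).2.symm.trans e)
        · exact hωω ((Finset.mem_filter.mp h).2.symm.trans e)
      · rw [e]; exact hω
      · rw [e]; linear_combination ω * hω3 + hω
    have h : ((X : M) * X + X + 1) * P = 0 := by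
      rw [add_mul, add_mul, one_mul, hsq, hPN]
      conv_lhs => arg 2; rw [← mul_one P]
      rw [← mul_add, ← mul_add, ← Matrix.diagonal_one, Matrix.diagonal_add, Matrix.diagonal_add]
      simp [hall]
    rw [← Matrix.mul_nonsing_inv_cancel_right (A := P) ((X : M) * (X : M) + (X : M) + 1) hu, h, zero_mul]

/-- A map with constant diagonal form is scalar. -/
theorem scal_of_diag {e P : M} {a : ℕ} {c : F} (hP : P.det ≠ 0)
    (h : e * P = P * Matrix.diagonal fun j : Fin 4 => if (j : ℕ) < a then (1 : F) else -1)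
    (hc : ∀ j : Fin 4, (if (j : ℕ) < a then (1 : F) else -1) = c) : e = c • 1 := by
  simp only [hc] at h
  rw [show (Matrix.diagonal fun _ : Fin 4 => c) = c • (1 : M) by rw [Matrix.smul_one_eq_diagonal], mul_smul_comm,
    mul_one] at h
  have hu : IsUnit P.det := isUnit_iff_ne_zero.mpr hP
  rw [← Matrix.mul_nonsing_inv_cancel_right (A := P) e hu, h, smul_mul_assoc, Matrix.mul_nonsing_inv _ hu]

end

/-- Elements of prime order of PSU_4(p), p ≡ 3 (mod 4), and the normalizer of a 2-group of symplectic type of order 2⁶. Here `T = PSU_4(p)` for a prime `p ≡ 3 (mod 4)`, realised through `SU_4(p)`, the matrices of determinant 1 over the field `F` with `p²` elements preserving the hermitian form `f = Σ uᵢvᵢ^p`; `R` is an absolutely irreducible subgroup of the full unitary group of `f` of order 2⁶ that is a 2-group of symplectic type of exponent 4 with centre of order 4, and `H` is the subgroup of `SU_4(p)` normalizing `R` — a subgroup of type 2⁴.Sp₄(2) (maximality is not assumed). Ω is the set of cosets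 of `H`, so an element of `T` of prime order `r` (`x ∈ SU_4(p)` with `x^r` scalar, `x` not scalar) fixes a point of Ω exactly when some `SU_4(p)`-conjugate of `x` normalizes `R`. Let `r` be a prime dividing the index of `H`. Then every element of `T` of order `r` fixes a point of Ω if and only if `r = 2`, or `r = 3` and `p ≡ 1 (mod 3)`, or `r = 5` and `p ≡ ±2 (mod 5)` (`p` has multiplicative order 4 modulo 5). -/
theorem result {F : Type*} [Field F] [Fintype F] {p : ℕ} [Fact p.Prime] [CharP F p] (hF : Fintype.card F = p ^ 2) (hp4 : p % 4 = 3)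
    (R : Subgroup (GL (Fin 4) F)) (hRs : Cfsg.Geo.IsSymplecticTypeGroup 2 R) (hRi : Cfsg.Geo.ActsAbsolutelyIrreducibly (Cfsg.Geo.matrixSet R))
    (hRU : R ≤ Cfsg.GU 4 F p) (hR6 : Nat.card R = 2 ^ 6) (hRZ : Nat.card (Subgroup.center R) = 4)
    (r : ℕ) [Fact r.Prime]
    (hΩ : r ∣ (Cfsg.Geo.subgroupNormalizer R).relIndex (Cfsg.GU 4 F p ⊓ Cfsg.Geo.specialLinear (Fin 4) F)) :
    (∀ x ∈ Cfsg.GU 4 F p ⊓ Cfsg.Geo.specialLinear (Fin 4) F, (∃ z : F, ((x ^ r : GL (Fin 4) F) : Matrix (Fin 4) (Fin 4) F) = z • (1 : Matrix (Fin 4) (Fin 4) F)) →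
      (∀ z : F, (x : Matrix (Fin 4) (Fin 4) F) ≠ z • (1 : Matrix (Fin 4) (Fin 4) F)) →
      ∃ g ∈ Cfsg.GU 4 F p ⊓ Cfsg.Geo.specialLinear (Fin 4) F, g⁻¹ * x * g ∈ Cfsg.Geo.subgroupNormalizer R) ↔ (r = 2 ∨ (r = 3 ∧ p % 3 = 1) ∨ (r = 5 ∧ orderOf (p : ZMod 5) = 4)) := by
  classical
  have hp : p.Prime := Fact.out
  have hr : r.Prime := Fact.out
  have hp2 : p ≠ 2 := fun e => by rw [e] at hp4; omega
  have hpp : 3 ≤ p := by have := hp.two_le; omega
  have hodd : Odd p := hp.odd_of_ne_two hp2
  have h2 : (2 : F) ≠ 0 := fun h => hp2 ((Nat.prime_dvd_prime_iff_eq hp Nat.prime_two).mp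
    ((CharP.cast_eq_zero_iff F p 2).mp (by exact_mod_cast h)))
  have hP := pauli_of hRs hRi (by omega)
  haveI := hP.fin
  obtain ⟨ι, w, hι, hw, hFour⟩ := S6000.four_of hP hR6 hRZ h2
  obtain ⟨σ, hσ⟩ : ∃ σ, σ = conjHom hF := ⟨_, rfl⟩
  have hσ2 : ∀ a, σ (σ a) = a := hσ ▸ conjHom_conjHom hF
  have hσp : ∀ a, σ a = a ^ p := fun a => by rw [hσ, conjHom_apply]
  have hσι : σ ι = -ι := by
    rw [hσp, show p = 2 * (p / 2) + 1 by omega, pow_succ, pow_mul, pow_two, hι,
      Odd.neg_one_pow (Nat.odd_iff.mpr (by omega)), neg_one_mul]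
  have hcard16 : (16 : F) ≠ 0 := by rw [show (16 : F) = 2 ^ 4 by norm_num]; exact pow_ne_zero _ h2
  constructor
  · intro h
    by_contra hne
    push Not at hne
    obtain ⟨hr2, hr3, hr5⟩ := hne
    suffices hbad : ∃ x ∈ Cfsg.GU 4 F p ⊓ Cfsg.Geo.specialLinear (Fin 4) F, (x : (Matrix (Fin 4) (Fin 4) F)) ^ r = 1 ∧ (∀ z : F, (x : (Matrix (Fin 4) (Fin 4) F)) ≠ z • 1) ∧
        ∀ g : (GL (Fin 4) F), ¬ g⁻¹ * x * g ∈ Cfsg.Geo.subgroupNormalizer R by
      obtain ⟨x, hxS, hx, hns, hb⟩ := hbad
      obtain ⟨g, -, hg⟩ := h x hxS ⟨1, by rw [Units.val_pow_eq_pow_val, hx, one_smul]⟩ hns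
      exact hb g hg
    have conj : ∀ x : (GL (Fin 4) F), (x : (Matrix (Fin 4) (Fin 4) F)) ^ r = 1 → (∀ z : F, (x : (Matrix (Fin 4) (Fin 4) F)) ≠ z • 1) → ∀ g : (GL (Fin 4) F),
        g⁻¹ * x * g ∈ Cfsg.Geo.subgroupNormalizer R → ∃ y : (GL (Fin 4) F), y ∈ Cfsg.Geo.subgroupNormalizer R ∧
          y ^ r = 1 ∧ (∀ z : F, (y : (Matrix (Fin 4) (Fin 4) F)) ≠ z • 1) ∧ ∃ g' : (GL (Fin 4) F), y = g'⁻¹ * x * g' := by
      intro x hx hns g hg
      refine ⟨g⁻¹ * x * g, hg, ?_, ?_, g, rfl⟩
      · have hx' : x ^ r = 1 := Units.ext (by rw [Units.val_pow_eq_pow_val]; exact hx)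
        have := conj_pow (i := r) (a := g⁻¹) (b := x)
        rw [inv_inv, hx', mul_one, inv_mul_cancel] at this
        exact this
      · intro z hz
        apply hns z
        calc (x : (Matrix (Fin 4) (Fin 4) F)) = (g : (Matrix (Fin 4) (Fin 4) F)) * ((g⁻¹ * x * g : (GL (Fin 4) F)) : (Matrix (Fin 4) (Fin 4) F)) * ((g⁻¹ : (GL (Fin 4) F)) : (Matrix (Fin 4) (Fin 4) F)) := by
              rw [← Units.val_mul, ← Units.val_mul]; congr 1; group
          _ = z • 1 := by rw [hz, mul_smul_comm, mul_one, smul_mul_assoc, Units.mul_inv]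
    have traces : ∀ x g y : (GL (Fin 4) F), y = g⁻¹ * x * g → Matrix.trace (y : (Matrix (Fin 4) (Fin 4) F)) = Matrix.trace (x : (Matrix (Fin 4) (Fin 4) F)) ∧
        Matrix.trace ((y⁻¹ : (GL (Fin 4) F)) : (Matrix (Fin 4) (Fin 4) F)) = Matrix.trace ((x⁻¹ : (GL (Fin 4) F)) : (Matrix (Fin 4) (Fin 4) F)) := by
      rintro x g _ rfl
      constructor
      · rw [Units.val_mul, Units.val_mul, Matrix.trace_mul_comm, ← mul_assoc, Units.mul_inv, one_mul]
      · rw [_root_.mul_inv_rev, _root_.mul_inv_rev, inv_inv, Units.val_mul, Units.val_mul, Matrix.trace_mul_comm,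
          mul_assoc, Units.mul_inv, mul_one]
    have formula : ∀ y : GL (Fin 4) F, y ∈ Cfsg.Geo.subgroupNormalizer R → y ^ r = 1 →
        (Nat.card {s : R // y * (s : GL (Fin 4) F) = (s : GL (Fin 4) F) * y} : F) =
          4 * (Matrix.trace (y : (Matrix (Fin 4) (Fin 4) F)) * Matrix.trace ((y⁻¹ : GL (Fin 4) F) : (Matrix (Fin 4) (Fin 4) F))) := by
      intro y hyN hyr
      have h := hP.trace_formula h2 hyN (hr.odd_of_ne_two hr2) hyr
      rw [hR6, Fintype.card_fin] at h
      refine mul_left_cancel₀ hcard16 ?_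
      simp only [Matrix.coe_units_inv] at h ⊢
      push_cast at h
      linear_combination h
    by_cases hr35 : r = 3 ∨ r = 5
    · rcases hr35 with rfl | rfl
      · by_cases hp3 : p = 3
        · -- a transvection in characteristic three
          subst hp3
          have h30 : (3 : F) = 0 := by exact_mod_cast CharP.cast_eq_zero F 3
          obtain ⟨b, hb⟩ := exists_mul_tau (S := F) (hσ ▸ conjHom_ne_id hF) σ hσ2 (fun _ => rfl) (-1 : F)
            (isUnit_one.neg) (by rw [map_neg, map_one])
          let vv : Fin 4 → F := ![1, b, 0, 0]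
          let ww : Fin 4 → F := ![1, σ b, 0, 0]
          let N : (Matrix (Fin 4) (Fin 4) F) := ι • Matrix.vecMulVec vv ww
          have hwv : ww ⬝ᵥ vv = 0 := by
            simp [ww, vv, dotProduct, Fin.sum_univ_four]
            linear_combination hb
          have hNsand : ∀ A : (Matrix (Fin 4) (Fin 4) F), N * A * N = Matrix.trace (N * A) • N := by
            intro A
            simp only [N, smul_mul_assoc, mul_smul_comm, Matrix.trace_smul, smul_smul, Matrix.vecMulVec_mul,
              Matrix.trace_vecMulVec, Matrix.vecMulVec_mul_vecMulVec, smul_eq_mul]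
            rw [Matrix.vecMul_vecMulVec, Matrix.vecMulVec_smul, smul_smul, dotProduct_comm vv]
            congr 1
            ring
          have hNN : N * N = 0 := by
            have h := hNsand 1
            rw [mul_one] at h
            rw [h, show Matrix.trace N = 0 by simp [N, Matrix.trace_smul, Matrix.trace_vecMulVec, dotProduct_comm vv, hwv],
              zero_smul]
          have hadjN : adj σ N = -N := by
            ext i j
            simp [adj, N, Matrix.vecMulVec_apply, hσι]
            fin_cases i <;> fin_cases j <;> simp [vv, ww, hσ2, mul_comm]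
          let x : (GL (Fin 4) F) := ⟨1 + N, 1 - N, by simp only [add_mul, mul_sub, one_mul, mul_one, hNN]; abel,
            by simp only [sub_mul, mul_add, one_mul, mul_one, hNN]; abel⟩
          have hxU : x ∈ Cfsg.GU 4 F 3 := mem_GU_of_inv hF (by
            change adj (conjHom hF) (1 + N) = 1 - N
            rw [adj_add, adj_one, ← hσ, hadjN, sub_eq_add_neg])
          have hxr : (x : (Matrix (Fin 4) (Fin 4) F)) ^ 3 = 1 := by
            change (1 + N) ^ 3 = 1
            simp only [pow_succ, pow_zero, one_mul, add_mul, mul_add, mul_one, hNN, zero_mul]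
            rw [show 1 + N + (N + 0) + (N + 0 + (0 + 0)) = 1 + (3 : F) • N by module, h30, zero_smul, add_zero]
          have hι0 : ι ≠ 0 := fun e => by rw [e, mul_zero] at hι; exact one_ne_zero (α := F) (by linear_combination hι)
          have hns : ∀ z : F, (x : (Matrix (Fin 4) (Fin 4) F)) ≠ z • 1 := by
            intro z hz
            have e1 := congrFun (congrFun hz 0) 1
            simp [x, N, vv, ww, Matrix.vecMulVec_apply] at e1
            rcases e1 with e1 | e1
            · exact hι0 e1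
            · rw [e1] at hb; simp at hb
          refine ⟨x, Subgroup.mem_inf.2 ⟨hxU, mem_SL.2 ?_⟩, hxr, hns, fun g hg => ?_⟩
          · change (1 + N).det = 1
            have hfr : (1 + N).det ^ 3 = 1 := by rw [← Matrix.det_pow]; exact (congrArg Matrix.det hxr).trans Matrix.det_one
            have h0 : ((1 + N).det - 1) ^ 3 = 0 := by linear_combination hfr - ((1 + N).det ^ 2 - (1 + N).det) * h30
            exact sub_eq_zero.mp (pow_eq_zero_iff (by norm_num) |>.mp h0)
          obtain ⟨y, hyN, hyr, hyns, ⟨g', hy⟩⟩ := conj x hxr hns g hg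
          set N' : (Matrix (Fin 4) (Fin 4) F) := (y : (Matrix (Fin 4) (Fin 4) F)) - 1 with hN'
          have hN'e : N' = ((g'⁻¹ : (GL (Fin 4) F)) : (Matrix (Fin 4) (Fin 4) F)) * N * (g' : (Matrix (Fin 4) (Fin 4) F)) := by
            rw [hN', hy, Units.val_mul, Units.val_mul]
            change ((g'⁻¹ : (GL (Fin 4) F)) : (Matrix (Fin 4) (Fin 4) F)) * (1 + N) * (g' : (Matrix (Fin 4) (Fin 4) F)) - 1 = _
            rw [mul_add, add_mul, mul_one, Units.inv_mul, add_sub_cancel_left]
          have hsand : ∀ A : (Matrix (Fin 4) (Fin 4) F), N' * A * N' = Matrix.trace (N' * A) • N' := by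
            intro A
            rw [hN'e]
            have h := congrArg (fun B => ((g'⁻¹ : (GL (Fin 4) F)) : (Matrix (Fin 4) (Fin 4) F)) * B * (g' : (Matrix (Fin 4) (Fin 4) F)))
              (hNsand ((g' : (Matrix (Fin 4) (Fin 4) F)) * A * ((g'⁻¹ : (GL (Fin 4) F)) : (Matrix (Fin 4) (Fin 4) F))))
            simp only [mul_smul_comm, smul_mul_assoc] at h
            rw [show Matrix.trace (N * ((g' : (Matrix (Fin 4) (Fin 4) F)) * A * ((g'⁻¹ : (GL (Fin 4) F)) : (Matrix (Fin 4) (Fin 4) F)))) =
              Matrix.trace (((g'⁻¹ : (GL (Fin 4) F)) : (Matrix (Fin 4) (Fin 4) F)) * N * (g' : (Matrix (Fin 4) (Fin 4) F)) * A) by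
                rw [← mul_assoc, Matrix.trace_mul_comm, ← mul_assoc, ← mul_assoc]] at h
            rw [← h]
            simp only [mul_assoc]
          have hy1 : (y : (Matrix (Fin 4) (Fin 4) F)) = 1 + N' := (add_sub_cancel _ _).symm
          have hN2 : N' * N' = 0 := by
            rw [hN'e, mul_assoc, mul_assoc, ← mul_assoc (g' : (Matrix (Fin 4) (Fin 4) F)), ← mul_assoc (g' : (Matrix (Fin 4) (Fin 4) F)), Units.mul_inv, one_mul,
              ← mul_assoc N, hNN, zero_mul, mul_zero]
          have hyi : ((y⁻¹ : (GL (Fin 4) F)) : (Matrix (Fin 4) (Fin 4) F)) = 1 - N' :=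
            left_inv_eq_right_inv (Units.inv_mul y) (by
              rw [hy1]; simp only [add_mul, mul_sub, one_mul, mul_one, hN2]; abel)
          have h3odd : Odd 3 := by decide
          let C : Subgroup R := (Subgroup.centralizer ({y} : Set (GL (Fin 4) F))).comap R.subtype
          have hC : ∀ s : R, s ∈ C ↔ y * (s : (GL (Fin 4) F)) = (s : (GL (Fin 4) F)) * y := fun s =>
            Subgroup.mem_centralizer_singleton_iff.trans eq_comm
          have hCtop : C ≠ ⊤ := by
            intro e
            obtain ⟨c, hc⟩ := hP.abs (y : (Matrix (Fin 4) (Fin 4) F)) fun s hs => by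
              simpa using congrArg (fun a : (GL (Fin 4) F) => (a : (Matrix (Fin 4) (Fin 4) F))) ((hC ⟨s, hs⟩).mp (e ▸ Subgroup.mem_top _))
            exact hyns c hc
          have hT : ∀ s : R, s ∉ C → Matrix.trace (N' * ((s : (GL (Fin 4) F)) : (Matrix (Fin 4) (Fin 4) F))) *
              Matrix.trace (N' * (((s : (GL (Fin 4) F))⁻¹ : (GL (Fin 4) F)) : (Matrix (Fin 4) (Fin 4) F))) = 1 := by
            intro s hs
            have hm : y * (s : (GL (Fin 4) F)) * y⁻¹ * (s : (GL (Fin 4) F))⁻¹ ∈ R := mul_mem (conj_mem hyN s.2) (inv_mem s.2)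
            have h := hP.trace_eq_zero h2 hm fun hsc => hs ((hC s).mpr (hP.eq_one_of_scalar hyN h3odd hyr s.2 hsc))
            rw [Units.val_mul, Units.val_mul, Units.val_mul, hy1, hyi] at h
            simp only [add_mul, mul_sub, sub_mul, one_mul, mul_one, Matrix.trace_add, Matrix.trace_sub,
              Units.mul_inv] at h
            rw [hsand, smul_mul_assoc, Matrix.trace_smul, smul_eq_mul, Matrix.trace_one, Fintype.card_fin] at h
            have e1 : Matrix.trace (((s : (GL (Fin 4) F)) : (Matrix (Fin 4) (Fin 4) F)) * N' * (((s : (GL (Fin 4) F))⁻¹ : (GL (Fin 4) F)) : (Matrix (Fin 4) (Fin 4) F))) =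
                Matrix.trace (N' * ((s : (GL (Fin 4) F)) : (Matrix (Fin 4) (Fin 4) F)) * (((s : (GL (Fin 4) F))⁻¹ : (GL (Fin 4) F)) : (Matrix (Fin 4) (Fin 4) F))) := by
              rw [Matrix.trace_mul_comm, ← mul_assoc, Units.inv_mul, one_mul, mul_assoc, Units.mul_inv, mul_one]
            rw [e1] at h
            rw [Nat.cast_ofNat] at h
            linear_combination -h + h30
          obtain ⟨s, hs⟩ : ∃ s : R, s ∉ C := by
            by_contra hno
            push Not at hno
            exact hCtop (eq_top_iff.mpr fun a _ => hno a)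
          -- a member outside the centraliser and the orbit
          let o : Fin 3 → R := fun k => ⟨y ^ (k : ℕ) * (s : (GL (Fin 4) F)) * (y ^ (k : ℕ))⁻¹, conj_mem (pow_mem hyN k) s.2⟩
          let zs : Finset R := {1, ⟨-1, hP.negmem⟩, w, ⟨-1, hP.negmem⟩ * w}
          obtain ⟨t, htC, ht⟩ : ∃ t : R, t ∉ C ∧ ∀ k, ¬ IsScal (((t⁻¹ * o k : R) : (GL (Fin 4) F)) : (Matrix (Fin 4) (Fin 4) F)) := by
            by_contra hno
            push Not at hno
            have hcov : (Finset.univ : Finset R) ⊆
                Finset.univ.filter (· ∈ C) ∪ (Finset.univ ×ˢ zs).image (fun q : Fin 3 × R => o q.1 * q.2⁻¹) := by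
              intro a _
              by_cases ha : a ∈ C
              · exact Finset.mem_union_left _ (Finset.mem_filter.mpr ⟨Finset.mem_univ _, ha⟩)
              refine Finset.mem_union_right _ ?_
              obtain ⟨k, c, hc⟩ := hno a ha
              refine Finset.mem_image.mpr ⟨(k, a⁻¹ * o k), Finset.mem_product.mpr ⟨Finset.mem_univ _, ?_⟩, by
                group⟩
              have h := (hFour.centre (a⁻¹ * o k)).mp fun b => Subtype.ext (Units.ext (by
                simp only [Subgroup.coe_mul, Units.val_mul] at hc ⊢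
                rw [hc]; simp))
              simpa [zs] using h
            have hh := (Finset.card_le_card hcov).trans (Finset.card_union_le _ _)
            have hh1 : ((Finset.univ ×ˢ zs).image (fun q : Fin 3 × R => o q.1 * q.2⁻¹)).card ≤ 12 := by
              refine Finset.card_image_le.trans ?_
              rw [Finset.card_product, Finset.card_univ, Fintype.card_fin]
              have : zs.card ≤ 4 := Finset.card_le_four
              omega
            have hh2 : (Finset.univ.filter (· ∈ C)).card ≤ 32 := by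
              rw [← Fintype.card_subtype, ← Nat.card_eq_fintype_card]
              have hidx : 2 ≤ C.index := by
                rcases Nat.lt_or_ge C.index 2 with hl | hl
                · exfalso
                  have h0 : C.index ≠ 0 := Subgroup.index_ne_zero_of_finite
                  exact hCtop (Subgroup.index_eq_one.mp (by omega))
                · exact hl
              have hm := C.card_mul_index
              rw [hR6] at hm
              have := Nat.mul_le_mul_left (Nat.card C) hidx
              change Nat.card C ≤ 32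
              omega
            rw [Finset.card_univ, ← Nat.card_eq_fintype_card, hR6] at hh
            omega
          have hk : ∀ k : ℕ, k < 3 → Matrix.trace ((((t : (GL (Fin 4) F))⁻¹ * (y ^ k * (s : (GL (Fin 4) F)) * (y ^ k)⁻¹) : (GL (Fin 4) F))) : (Matrix (Fin 4) (Fin 4) F)) = 0 :=
            fun k hk => hP.trace_eq_zero h2 (mul_mem (inv_mem t.2) (conj_mem (pow_mem hyN k) s.2)) (ht ⟨k, hk⟩)
          have e0 := hk 0 (by norm_num)
          have e1 := hk 1 (by norm_num)
          have e2 := hk 2 (by norm_num)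
          have hy2i : (((y ^ 2)⁻¹ : (GL (Fin 4) F)) : (Matrix (Fin 4) (Fin 4) F)) = (1 - N') * (1 - N') := by
            rw [← inv_pow, Units.val_pow_eq_pow_val, hyi, pow_two]
          rw [pow_zero, one_mul, inv_one, mul_one, Units.val_mul] at e0
          rw [pow_one, Units.val_mul, Units.val_mul, Units.val_mul, hy1, hyi] at e1
          rw [Units.val_mul, Units.val_mul, Units.val_mul, hy2i, Units.val_pow_eq_pow_val, hy1, pow_two] at e2
          simp only [add_mul, mul_add, mul_sub, sub_mul, one_mul, mul_one, mul_assoc, hN2, mul_zero, zero_mul,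
            Matrix.trace_add, Matrix.trace_sub, add_zero, sub_zero, zero_sub, zero_add, mul_neg, Matrix.trace_neg] at e0 e1 e2
          simp only [← mul_assoc] at e0 e1 e2
          have hfin : Matrix.trace ((((t : (GL (Fin 4) F))⁻¹ : (GL (Fin 4) F)) : (Matrix (Fin 4) (Fin 4) F)) * (N' * ((s : (GL (Fin 4) F)) : (Matrix (Fin 4) (Fin 4) F)) * N')) = 0 := by
            simp only [← mul_assoc]
            linear_combination
              e0 + e1 + e2 +
              (2 * Matrix.trace ((((t : (GL (Fin 4) F))⁻¹ : (GL (Fin 4) F)) : (Matrix (Fin 4) (Fin 4) F)) * N' * ((s : (GL (Fin 4) F)) : (Matrix (Fin 4) (Fin 4) F)) * N') -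
                Matrix.trace ((((t : (GL (Fin 4) F))⁻¹ : (GL (Fin 4) F)) : (Matrix (Fin 4) (Fin 4) F)) * ((s : (GL (Fin 4) F)) : (Matrix (Fin 4) (Fin 4) F))) -
                Matrix.trace ((((t : (GL (Fin 4) F))⁻¹ : (GL (Fin 4) F)) : (Matrix (Fin 4) (Fin 4) F)) * N' * ((s : (GL (Fin 4) F)) : (Matrix (Fin 4) (Fin 4) F))) +
                Matrix.trace ((((t : (GL (Fin 4) F))⁻¹ : (GL (Fin 4) F)) : (Matrix (Fin 4) (Fin 4) F)) * ((s : (GL (Fin 4) F)) : (Matrix (Fin 4) (Fin 4) F)) * N')) * h30
          rw [hsand, mul_smul_comm, Matrix.trace_smul, smul_eq_mul, Matrix.trace_mul_comm (((t : (GL (Fin 4) F))⁻¹ : (GL (Fin 4) F)) : (Matrix (Fin 4) (Fin 4) F))] at hfin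
          have hs1 := hT s hs
          have ht1 := hT t htC
          have hs0 : Matrix.trace (N' * ((s : (GL (Fin 4) F)) : (Matrix (Fin 4) (Fin 4) F))) ≠ 0 := fun e => by rw [e, zero_mul] at hs1; exact zero_ne_one hs1
          rw [(mul_eq_zero.mp hfin).resolve_left hs0, mul_zero] at ht1
          exact zero_ne_one ht1
        · -- order three, p congruent to two modulo three
          have h3 : (3 : F) ≠ 0 := fun h => hp3 ((Nat.prime_dvd_prime_iff_eq hp Nat.prime_three).mp
            ((CharP.cast_eq_zero_iff F p 3).mp (by exact_mod_cast h)))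
          have hpr : p % 3 = 2 := by
            have : p % 3 ≠ 0 := fun e => hp3 ((Nat.prime_dvd_prime_iff_eq Nat.prime_three hp).mp (Nat.dvd_of_mod_eq_zero e)).symm
            have := hr3 rfl
            omega
          obtain ⟨o, ho⟩ := exists_prime_orderOf_dvd_card' (G := Fˣ) 3 (by
            rw [Nat.card_units, Nat.card_eq_fintype_card, hF]
            refine (Nat.modEq_iff_dvd' (Nat.one_le_pow _ _ hp.pos)).mp ?_
            rw [Nat.ModEq, Nat.pow_mod, hpr])
          have ho3 : (o : F) ^ 3 = 1 := by rw [← Units.val_pow_eq_pow_val, ← ho, pow_orderOf_eq_one, Units.val_one]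
          have ho1 : (o : F) ≠ 1 := fun e => by
            rw [Units.val_eq_one] at e
            rw [e, orderOf_one] at ho
            omega
          have hσo : σ (o : F) = (o : F) ^ 2 := by
            rw [hσp, pow_eq_pow_mod p ho3, hpr]
          let X : (Matrix (Fin 4) (Fin 4) F) := Matrix.diagonal ![(o : F), o, o, 1]
          let Y : (Matrix (Fin 4) (Fin 4) F) := Matrix.diagonal ![(o : F) ^ 2, (o : F) ^ 2, (o : F) ^ 2, 1]
          have hXY : X * Y = 1 := by
            rw [Matrix.diagonal_mul_diagonal, ← Matrix.diagonal_one]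
            congr 1
            funext i
            fin_cases i <;> simp <;> linear_combination ho3
          let x : (GL (Fin 4) F) := ⟨X, Y, hXY, mul_eq_one_comm.mp hXY⟩
          have hxU : x ∈ Cfsg.GU 4 F p := mem_GU_of_inv hF (by
            change adj (conjHom hF) X = Y
            rw [← hσ, adj, Matrix.diagonal_map (map_zero σ), Matrix.diagonal_transpose]
            congr 1
            funext i
            fin_cases i <;> simp [hσo])
          have hxr : (x : (Matrix (Fin 4) (Fin 4) F)) ^ 3 = 1 := by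
            change X ^ 3 = 1
            rw [Matrix.diagonal_pow, ← Matrix.diagonal_one]
            congr 1
            funext i
            fin_cases i <;> simp [ho3]
          have hns : ∀ z : F, (x : (Matrix (Fin 4) (Fin 4) F)) ≠ z • 1 := by
            intro z hz
            have e0 := congrFun (congrFun hz 0) 0
            have e3 := congrFun (congrFun hz 3) 3
            simp [x, X] at e0 e3
            exact ho1 (e0.trans e3.symm)
          refine ⟨x, Subgroup.mem_inf.2 ⟨hxU, mem_SL.2 ?_⟩, hxr, hns, fun g hg => ?_⟩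
          · change X.det = 1
            rw [Matrix.det_diagonal, Fin.prod_univ_four]
            simp
            linear_combination ho3
          obtain ⟨y, hyN, hyr, hyns, ⟨g', hy⟩⟩ := conj x hxr hns g hg
          have hf := formula y hyN hyr
          obtain ⟨ht, hti⟩ := traces x g' y hy
          rw [ht, hti] at hf
          have hq : (o : F) * o + o + 1 = 0 :=
            (mul_eq_zero.mp (show ((o : F) - 1) * ((o : F) * o + o + 1) = 0 by linear_combination ho3)).resolve_left
              (sub_ne_zero.mpr ho1)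
          rw [show Matrix.trace (x : (Matrix (Fin 4) (Fin 4) F)) * Matrix.trace ((x⁻¹ : (GL (Fin 4) F)) : (Matrix (Fin 4) (Fin 4) F)) = 7 by
            change Matrix.trace X * Matrix.trace Y = 7
            simp [X, Y, Matrix.trace, Fin.sum_univ_four]
            linear_combination 9 * ho3 + 3 * hq] at hf
          rcases hP.card_fixed_four rfl hFour hyN hyns hr2 hyr with ⟨-, hC | hC⟩ | ⟨h5, -⟩
          · rw [hC] at hf; push_cast at hf
            have : (2 : F) * 2 * 2 * 3 = 0 := by linear_combination -hf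
            simp [h2, h3] at this
          · rw [hC] at hf; push_cast at hf
            have : (2 : F) * 2 * 3 = 0 := by linear_combination -hf
            simp [h2, h3] at this
          · omega
      · -- an element of order five of a plane
        have hp5 : p ≠ 5 := fun e => by rw [e] at hp4; omega
        haveI : Fact (Nat.Prime 5) := ⟨by norm_num⟩
        have hp0 : (p : ZMod 5) ≠ 0 := fun e => hp5 ((Nat.prime_dvd_prime_iff_eq (by norm_num) hp).mp
          ((ZMod.natCast_eq_zero_iff _ _).mp e)).symm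
        have hsq : (p : ZMod 5) ^ 2 = 1 := by
          have hd4 : orderOf (p : ZMod 5) ∣ 2 ^ 2 := orderOf_dvd_of_pow_eq_one (ZMod.pow_card_sub_one_eq_one hp0)
          obtain ⟨k, hk, hk'⟩ := (Nat.dvd_prime_pow Nat.prime_two).mp hd4
          refine orderOf_dvd_iff_pow_eq_one.mp ?_
          rw [hk']
          interval_cases k
          · norm_num
          · norm_num
          · exact absurd hk' (hr5 rfl)
        obtain ⟨o, ho⟩ := exists_prime_orderOf_dvd_card' (G := Fˣ) 5 (by
          rw [Nat.card_units, Nat.card_eq_fintype_card, hF, ← ZMod.natCast_eq_zero_iff,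
            Nat.cast_sub (Nat.one_le_pow _ _ hp.pos), Nat.cast_pow, Nat.cast_one, sub_eq_zero]
          exact hsq)
        have ho5 : (o : F) ^ 5 = 1 := by rw [← Units.val_pow_eq_pow_val, ← ho, pow_orderOf_eq_one, Units.val_one]
        have ho1 : (o : F) ≠ 1 := fun e => by
          rw [Units.val_eq_one] at e
          rw [e, orderOf_one] at ho
          omega
        obtain ⟨t, htd⟩ : ∃ t, t = (o : F) + (o : F) ^ 4 := ⟨_, rfl⟩
        have hΦ : (o : F) ^ 4 + (o : F) ^ 3 + (o : F) ^ 2 + o + 1 = 0 :=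
          (mul_eq_zero.mp (show ((o : F) - 1) * ((o : F) ^ 4 + (o : F) ^ 3 + (o : F) ^ 2 + o + 1) = 0 by
            linear_combination ho5)).resolve_left (sub_ne_zero.mpr ho1)
        have ht5 : t * t + t = 1 := by
          rw [htd]; linear_combination hΦ + ((o : F) ^ 3 + 2) * ho5
        have htσ : σ t = t := by
          have hm : p % 5 = 1 ∨ p % 5 = 4 := by
            have h := (ZMod.natCast_eq_natCast_iff' (p ^ 2) 1 5).mp (by push_cast; exact hsq)
            rw [Nat.pow_mod] at h
            have := Nat.mod_lt p (show 5 > 0 by norm_num)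
            interval_cases p % 5 <;> simp_all
          rw [htd, map_add, map_pow, hσp, pow_eq_pow_mod p ho5]
          rcases hm with e | e <;> rw [e]
          · rw [pow_one]
          · linear_combination ((o : F) ^ 11 + (o : F) ^ 6 + (o : F)) * ho5
        have hσh : σ (t * (2 : F)⁻¹) = t * (2 : F)⁻¹ := by rw [map_mul, map_inv₀, htσ, map_ofNat]
        obtain ⟨b, hb⟩ : ∃ b : F, b * σ b = 1 - t * (2 : F)⁻¹ * (t * (2 : F)⁻¹) := by
          by_cases h0 : 1 - t * (2 : F)⁻¹ * (t * (2 : F)⁻¹) = 0
          · exact ⟨0, by rw [h0, zero_mul]⟩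
          · exact exists_mul_tau (S := F) (hσ ▸ conjHom_ne_id hF) σ hσ2 (fun _ => rfl) _ (isUnit_iff_ne_zero.mpr h0)
              (by rw [map_sub, map_one, map_mul, hσh])
        obtain ⟨a, had⟩ : ∃ a, a = t * (2 : F)⁻¹ := ⟨_, rfl⟩
        rw [← had] at hb hσh
        have ha2 : a + a = t := by rw [had]; field_simp; ring
        let A : (Matrix (Fin 4) (Fin 4) F) := !![a, b, 0, 0; -σ b, a, 0, 0; 0, 0, 1, 0; 0, 0, 0, 1]
        let B : (Matrix (Fin 4) (Fin 4) F) := !![a, -b, 0, 0; σ b, a, 0, 0; 0, 0, 1, 0; 0, 0, 0, 1]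
        let D : (Matrix (Fin 4) (Fin 4) F) := Matrix.diagonal ![1, 1, 0, 0]
        have hAB : A * B = 1 := by
          ext i j
          fin_cases i <;> fin_cases j <;> simp [A, B, Matrix.mul_apply, Fin.sum_univ_four] <;>
            first | linear_combination hb | linear_combination -hb | ring1
        have hAA : A * A = t • (A * D) - D + (1 - D) := by
          ext i j
          fin_cases i <;> fin_cases j <;> simp [A, D, Matrix.mul_apply, Matrix.vecMul_diagonal, Fin.sum_univ_four] <;> (try rw [← ha2]) <;>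
            first | linear_combination hb | linear_combination -hb | ring1
        have hAD : A * D = D * A := by
          ext i j
          fin_cases i <;> fin_cases j <;> simp [A, D]
        have hDD : D * D = D := by
          simp only [D, Matrix.diagonal_mul_diagonal]
          congr 1
          funext i; fin_cases i <;> simp
        have hA1D : A * (1 - D) = 1 - D := by
          ext i j
          fin_cases i <;> fin_cases j <;> simp [A, D, Matrix.mul_apply, Fin.sum_univ_four]
        let x : (GL (Fin 4) F) := ⟨A, B, hAB, mul_eq_one_comm.mp hAB⟩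
        have hxU : x ∈ Cfsg.GU 4 F p := mem_GU_of_inv hF (by
          change adj (conjHom hF) A = B
          rw [← hσ]
          ext i j
          fin_cases i <;> fin_cases j <;> simp [adj, A, B, hσh, hσ2])
        have hxr : (x : (Matrix (Fin 4) (Fin 4) F)) ^ 5 = 1 := by
          change A ^ 5 = 1
          have e2 : A * A * A = (-t) • (A * D) - t • D + (1 - D) := by
            rw [hAA, add_mul, sub_mul, smul_mul_assoc, mul_assoc, ← hAD, ← mul_assoc, hAA]
            rw [show (1 - D) * A = A * (1 - D) by rw [mul_sub, sub_mul, hAD, one_mul, mul_one], hA1D]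
            rw [add_mul, sub_mul, smul_mul_assoc, mul_assoc A D D, hDD, sub_mul, one_mul, hDD, sub_self, add_zero]
            linear_combination (norm := module) congrArg (fun c : F => c • (A * D)) ht5
          rw [show A ^ 5 = A * A * A * (A * A) by simp only [pow_succ, pow_zero, one_mul, mul_assoc], e2, hAA]
          simp only [add_mul, sub_mul, mul_add, mul_sub, smul_mul_assoc, mul_smul_comm, smul_smul, mul_one, one_mul,
            hDD, mul_assoc A D D]
          have eAD2 : A * D * (A * D) = t • (A * D) - D := by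
            rw [mul_assoc, ← mul_assoc D, ← hAD, ← mul_assoc, ← mul_assoc, mul_assoc (A * A), hDD, hAA, add_mul,
              sub_mul, smul_mul_assoc, mul_assoc, hDD, sub_mul, one_mul, hDD, sub_self, add_zero]
          rw [eAD2, show D * (A * D) = A * D by rw [← mul_assoc, ← hAD, mul_assoc, hDD]]
          simp only [smul_sub, smul_smul]
          match_scalars <;> first | ring1 | linear_combination (-t) * ht5 | linear_combination (t + 1) * ht5 | linear_combination ht5 | linear_combination -ht5 | linear_combination t * ht5 | linear_combination (-(t + 1)) * ht5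
        have hns : ∀ z : F, (x : (Matrix (Fin 4) (Fin 4) F)) ≠ z • 1 := by
          intro z hz
          have e0 := congrFun (congrFun hz 0) 0
          have e2 := congrFun (congrFun hz 2) 2
          simp [x, A] at e0 e2
          rw [← e2] at e0
          have h5 : ((5 : ℕ) : F) = 0 := by
            push_cast
            rw [← ha2, e0] at ht5
            linear_combination ht5
          exact hp5 ((Nat.prime_dvd_prime_iff_eq hp (by norm_num)).mp ((CharP.cast_eq_zero_iff F p 5).mp h5))
        refine ⟨x, Subgroup.mem_inf.2 ⟨hxU, mem_SL.2 ?_⟩, hxr, hns, fun g hg => ?_⟩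
        · change A.det = 1
          simp [A, Matrix.det_succ_row_zero, Fin.sum_univ_succ, Fin.succAbove]
          linear_combination hb
        obtain ⟨y, hyN, hyr, hyns, ⟨g', hy⟩⟩ := conj x hxr hns g hg
        have hf := formula y hyN hyr
        obtain ⟨ht, hti⟩ := traces x g' y hy
        rw [ht, hti, show Matrix.trace (x : (Matrix (Fin 4) (Fin 4) F)) = t + 2 by
            change Matrix.trace A = _
            simp [A, Matrix.trace, Fin.sum_univ_four]
            linear_combination ha2,
          show Matrix.trace ((x⁻¹ : (GL (Fin 4) F)) : (Matrix (Fin 4) (Fin 4) F)) = t + 2 by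
            change Matrix.trace B = _
            simp [B, Matrix.trace, Fin.sum_univ_four]
            linear_combination ha2] at hf
        rcases hP.card_fixed_four rfl hFour hyN hyns hr2 hyr with ⟨h53, -⟩ | ⟨-, hC⟩
        · omega
        · rw [hC] at hf
          have h1 : (t + 2) * (t + 2) = 1 := by
            refine mul_left_cancel₀ (pow_ne_zero 2 h2) ?_
            push_cast at hf
            linear_combination -hf
          have h34 : 3 * t + 4 = 0 := by linear_combination h1 - ht5
          have h5 : ((5 : ℕ) : F) = 0 := by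
            push_cast
            linear_combination -9 * ht5 + (3 * t - 1) * h34
          exact hp5 ((Nat.prime_dvd_prime_iff_eq hp (by norm_num)).mp ((CharP.cast_eq_zero_iff F p 5).mp h5))
    · obtain ⟨x, hx⟩ := exists_prime_orderOf_dvd_card' (G := ↥(Cfsg.GU 4 F p ⊓ Cfsg.Geo.specialLinear (Fin 4) F)) r
        (hΩ.trans (Subgroup.relIndex_dvd_card _ _))
      have hxr : ((x : (GL (Fin 4) F)) : (Matrix (Fin 4) (Fin 4) F)) ^ r = 1 := by
        rw [← Units.val_pow_eq_pow_val, ← SubgroupClass.coe_pow, ← hx, pow_orderOf_eq_one]; rfl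
      have hns : ∀ z : F, ((x : (GL (Fin 4) F)) : (Matrix (Fin 4) (Fin 4) F)) ≠ z • 1 := by
        intro z hz
        have h4 := S6000.scalar_four (Subgroup.mem_inf.1 x.2).2 hz
        have hzr : z ^ r = 1 := by
          rw [hz, _root_.smul_pow, one_pow] at hxr
          simpa using congrFun (congrFun hxr 0) 0
        have hz1 : z = 1 := by
          have hcop : Nat.Coprime 4 r := by
            rw [show 4 = 2 ^ 2 from rfl]
            exact Nat.Coprime.pow_left 2 ((Nat.coprime_primes Nat.prime_two hr).mpr (Ne.symm hr2))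
          simpa [hcop.gcd_eq_one] using pow_gcd_eq_one.mpr ⟨h4, hzr⟩
        have : x = 1 := Subtype.ext (Units.ext (by rw [hz, hz1, one_smul]; rfl))
        rw [this, orderOf_one] at hx
        exact hr.one_lt.ne hx
      refine ⟨x, x.2, hxr, hns, fun g hg => ?_⟩
      obtain ⟨y, hyN, hyr, hyns, -⟩ := conj _ hxr hns g hg
      rcases hP.card_fixed_four rfl hFour hyN hyns hr2 hyr with ⟨rfl, -⟩ | ⟨rfl, -⟩ <;> exact hr35 (by tauto)
  · intro hcase x hxS hxz hns
    obtain ⟨z, hz⟩ := hxz
    obtain ⟨i, j, u, v, huu, hvv, hii, hjj, huv, hij, hiu, hiv, hju, hjv, hgen⟩ := hFour.exists_frame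
    have cv : ∀ {a b : R}, a = b → ((a : GL (Fin 4) F) : (Matrix (Fin 4) (Fin 4) F)) = ((b : GL (Fin 4) F) : (Matrix (Fin 4) (Fin 4) F)) := fun h => by rw [h]
    have Euu : ((u : GL (Fin 4) F) : (Matrix (Fin 4) (Fin 4) F)) * ((u : GL (Fin 4) F) : (Matrix (Fin 4) (Fin 4) F)) = 1 := by simpa using cv huu
    have Evv : ((v : GL (Fin 4) F) : (Matrix (Fin 4) (Fin 4) F)) * ((v : GL (Fin 4) F) : (Matrix (Fin 4) (Fin 4) F)) = 1 := by simpa using cv hvv
    have Eii : ((i : GL (Fin 4) F) : (Matrix (Fin 4) (Fin 4) F)) * ((i : GL (Fin 4) F) : (Matrix (Fin 4) (Fin 4) F)) = -1 := by simpa using cv hii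
    have Ejj : ((j : GL (Fin 4) F) : (Matrix (Fin 4) (Fin 4) F)) * ((j : GL (Fin 4) F) : (Matrix (Fin 4) (Fin 4) F)) = -1 := by simpa using cv hjj
    have Euv : ((u : GL (Fin 4) F) : (Matrix (Fin 4) (Fin 4) F)) * ((v : GL (Fin 4) F) : (Matrix (Fin 4) (Fin 4) F)) =
        -(((v : GL (Fin 4) F) : (Matrix (Fin 4) (Fin 4) F)) * ((u : GL (Fin 4) F) : (Matrix (Fin 4) (Fin 4) F))) := by simpa using cv huv
    have Eij : ((i : GL (Fin 4) F) : (Matrix (Fin 4) (Fin 4) F)) * ((j : GL (Fin 4) F) : (Matrix (Fin 4) (Fin 4) F)) =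
        -(((j : GL (Fin 4) F) : (Matrix (Fin 4) (Fin 4) F)) * ((i : GL (Fin 4) F) : (Matrix (Fin 4) (Fin 4) F))) := by simpa using cv hij
    have Eiu : ((i : GL (Fin 4) F) : (Matrix (Fin 4) (Fin 4) F)) * ((u : GL (Fin 4) F) : (Matrix (Fin 4) (Fin 4) F)) = ((u : GL (Fin 4) F) : (Matrix (Fin 4) (Fin 4) F)) * ((i : GL (Fin 4) F) : (Matrix (Fin 4) (Fin 4) F)) := by
      simpa using cv hiu
    have Eiv : ((i : GL (Fin 4) F) : (Matrix (Fin 4) (Fin 4) F)) * ((v : GL (Fin 4) F) : (Matrix (Fin 4) (Fin 4) F)) = ((v : GL (Fin 4) F) : (Matrix (Fin 4) (Fin 4) F)) * ((i : GL (Fin 4) F) : (Matrix (Fin 4) (Fin 4) F)) := by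
      simpa using cv hiv
    have Eju : ((j : GL (Fin 4) F) : (Matrix (Fin 4) (Fin 4) F)) * ((u : GL (Fin 4) F) : (Matrix (Fin 4) (Fin 4) F)) = ((u : GL (Fin 4) F) : (Matrix (Fin 4) (Fin 4) F)) * ((j : GL (Fin 4) F) : (Matrix (Fin 4) (Fin 4) F)) := by
      simpa using cv hju
    have Ejv : ((j : GL (Fin 4) F) : (Matrix (Fin 4) (Fin 4) F)) * ((v : GL (Fin 4) F) : (Matrix (Fin 4) (Fin 4) F)) = ((v : GL (Fin 4) F) : (Matrix (Fin 4) (Fin 4) F)) * ((j : GL (Fin 4) F) : (Matrix (Fin 4) (Fin 4) F)) := by
      simpa using cv hjv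
    have hxU : x ∈ Cfsg.GU 4 F p := (Subgroup.mem_inf.1 hxS).1
    rcases hcase with rfl | ⟨rfl, hpr⟩ | ⟨rfl, ho⟩
    · -- involutions
      have hxx : (x : (Matrix (Fin 4) (Fin 4) F)) * x = z • 1 := by rw [← pow_two, ← Units.val_pow_eq_pow_val, hz]
      have hzn : conjHom hF z * z = 1 := scalar_norm hF (pow_mem hxU 2) hz
      have hz4 : z ^ 4 = 1 := S6000.scalar_four (pow_mem (Subgroup.mem_inf.1 hxS).2 2) hz
      have hz0 : z ≠ 0 := fun e => by rw [e] at hz4; simp at hz4
      obtain ⟨c, hc⟩ : IsSquare z := by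
        refine (FiniteField.isSquare_iff (by rw [ringChar.eq F p]; exact hp2) hz0).mpr ?_
        obtain ⟨k, hk⟩ : 4 ∣ Fintype.card F / 2 := by
          obtain ⟨m, rfl⟩ : ∃ m, p = 4 * m + 3 := ⟨p / 4, by omega⟩
          exact ⟨2 * m * m + 3 * m + 1, by rw [hF, show (4 * m + 3) ^ 2 = 2 * (4 * (2 * m * m + 3 * m + 1)) + 1 by ring]; omega⟩
        rw [hk, pow_mul, hz4, one_pow]
      have hc0 : c ≠ 0 := fun e => hz0 (by rw [hc, e, mul_zero])
      set e : (GL (Fin 4) F) := scal (inv_ne_zero hc0) * x with he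
      have hev : (e : (Matrix (Fin 4) (Fin 4) F)) = c⁻¹ • (x : (Matrix (Fin 4) (Fin 4) F)) := by rw [he, Units.val_mul, scal_val, smul_mul_assoc, one_mul]
      have hee : (e : (Matrix (Fin 4) (Fin 4) F)) * e = 1 := by
        rw [hev, smul_mul_smul_comm, hxx, smul_smul, hc]
        rw [show c⁻¹ * c⁻¹ * (c * c) = 1 by field_simp, one_smul]
      have hens : ∀ z' : F, (e : (Matrix (Fin 4) (Fin 4) F)) ≠ z' • 1 := fun z' h' => hns (c * z') (by
        rw [mul_smul, ← h', hev, smul_smul, mul_inv_cancel₀ hc0, one_smul])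
      obtain ⟨a, ha4, P, hPd, hPN⟩ := SLConj.exists_diag_basis h2 hee
      have htre := SLConj.trace_eq_of_basis hPd hPN
      have hd : ∀ m ≤ 4, Matrix.trace (Matrix.diagonal fun j : Fin 4 => if (j : ℕ) < m then (1 : F) else -1) =
          2 * (m : F) - 4 := fun m hm => by
        rw [Matrix.trace_diagonal, Fin.sum_univ_four]
        interval_cases m <;> simp <;> ring
      -- the scalar has norm one
      have hcn : conjHom hF c * c = 1 := by
        have h := hzn
        rw [hc, map_mul] at h
        rcases mul_self_eq_one_iff.mp (show conjHom hF c * c * (conjHom hF c * c) = 1 by linear_combination h) with e' | e'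
        · exact e'
        exfalso
        have hadj : adj (conjHom hF) (e : (Matrix (Fin 4) (Fin 4) F)) = -(e : (Matrix (Fin 4) (Fin 4) F)) := by
          have h1 : adj (conjHom hF) (e : (Matrix (Fin 4) (Fin 4) F)) * e = -1 := by
            rw [hev, adj_smul, smul_mul_smul_comm, (mem_GU_adj hF x).1 hxU, map_inv₀, ← mul_inv, e', inv_neg,
              inv_one, neg_one_smul]
          calc adj (conjHom hF) (e : (Matrix (Fin 4) (Fin 4) F)) = adj (conjHom hF) (e : (Matrix (Fin 4) (Fin 4) F)) * ((e : (Matrix (Fin 4) (Fin 4) F)) * e) := by rw [hee, mul_one]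
            _ = _ := by rw [← mul_assoc, h1, neg_one_mul]
        have ht := congrArg Matrix.trace hadj
        rw [trace_adj, Matrix.trace_neg, htre, hd a ha4, map_sub, map_mul, map_ofNat, map_natCast, map_ofNat] at ht
        have ha : ((a : ℕ) : F) = ((2 : ℕ) : F) := by
          push_cast
          refine mul_left_cancel₀ (mul_ne_zero h2 h2) ?_
          linear_combination ht
        rw [CharP.natCast_eq_natCast F p, Nat.ModEq, Nat.mod_eq_of_lt (show 2 < p by omega)] at ha
        have ha2 : a = 2 := by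
          rcases (show a = 0 ∨ a = 1 ∨ a = 2 ∨ a = 3 ∨ a = 4 by omega) with rfl | rfl | rfl | rfl | rfl
          · simp at ha
          · rw [Nat.mod_eq_of_lt (by omega)] at ha; omega
          · rfl
          · rcases Nat.lt_or_ge 3 p with hlt | hge
            · rw [Nat.mod_eq_of_lt hlt] at ha; omega
            · rw [show p = 3 by omega] at ha; omega
          · rcases Nat.lt_or_ge 4 p with hlt | hge
            · rw [Nat.mod_eq_of_lt hlt] at ha; omega
            · rw [show p = 3 by omega] at ha; omega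
        subst ha2
        have hde : (e : (Matrix (Fin 4) (Fin 4) F)).det = 1 := by
          have h := congrArg Matrix.det hPN
          rw [Matrix.det_mul, Matrix.det_mul, Matrix.det_diagonal, Fin.prod_univ_four] at h
          exact mul_right_cancel₀ hPd (h.trans (by simp))
        have hc4 : c ^ 4 = 1 := by
          rw [hev, Matrix.det_smul, Fintype.card_fin, mem_SL.mp (Subgroup.mem_inf.1 hxS).2, mul_one, inv_pow,
            inv_eq_one] at hde
          exact hde
        have h1 : conjHom hF c * c = 1 := norm_of_pow hF (by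
          obtain ⟨k, hk⟩ : 4 ∣ p + 1 := ⟨(p + 1) / 4, by omega⟩
          rw [hk, pow_mul, hc4, one_pow])
        rw [h1] at e'
        exact h2 (by linear_combination e')
      have heU : e ∈ Cfsg.GU 4 F p := mul_mem (scal_mem hF (inv_ne_zero hc0) (by
        rw [map_inv₀, ← mul_inv, hcn, inv_one])) hxU
      -- involutions of the normaliser
      set b : GL (Fin 4) F := ((w * i : R) : GL (Fin 4) F) with hb
      have hbv : (b : (Matrix (Fin 4) (Fin 4) F)) = ι • ((i : GL (Fin 4) F) : (Matrix (Fin 4) (Fin 4) F)) := by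
        rw [hb, Subgroup.coe_mul, Units.val_mul, hw, smul_mul_assoc, one_mul]
      set U : (Matrix (Fin 4) (Fin 4) F) := ((u : GL (Fin 4) F) : (Matrix (Fin 4) (Fin 4) F)) with hU
      set B : (Matrix (Fin 4) (Fin 4) F) := (b : (Matrix (Fin 4) (Fin 4) F)) with hB
      have hBB : B * B = 1 := by rw [hbv, smul_mul_smul_comm, Eii, hι]; simp
      have hUB : U * B = B * U := by rw [hbv, mul_smul_comm, smul_mul_assoc, ← Eiu]
      set K : (Matrix (Fin 4) (Fin 4) F) := (2 : F)⁻¹ • (1 + U + B - U * B) with hK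
      have hKK : K * K = 1 := by
        have e1 : (1 + U + B - U * B) * (1 + U + B - U * B) = (4 : F) • (1 : (Matrix (Fin 4) (Fin 4) F)) := by
          have e2 : ∀ y : (Matrix (Fin 4) (Fin 4) F), B * (U * y) = U * (B * y) := fun y => by rw [← mul_assoc, ← hUB, mul_assoc]
          have e3 : ∀ y : (Matrix (Fin 4) (Fin 4) F), U * (U * y) = y := fun y => by rw [← mul_assoc, Euu, one_mul]
          simp only [add_mul, mul_add, sub_mul, mul_sub, one_mul, mul_one, mul_assoc, e2, e3, ← hUB, Euu, hBB]
          module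
        rw [hK, smul_mul_smul_comm, e1, smul_smul]
        rw [show (2 : F)⁻¹ * (2 : F)⁻¹ * 4 = 1 by field_simp; norm_num, one_smul]
      let Ku : GL (Fin 4) F := ⟨K, K, hKK, hKK⟩
      have hKu : (Ku : (Matrix (Fin 4) (Fin 4) F)) = K := rfl
      have hconjK : ∀ s ∈ R, ∃ s' ∈ R, Ku * s = s' * Ku := by
        intro s hs
        have hbR : b ∈ R := (w * i : R).2
        have key : ∀ S' : (Matrix (Fin 4) (Fin 4) F), (1 + U + B - U * B) * (s : (Matrix (Fin 4) (Fin 4) F)) = S' * (1 + U + B - U * B) → K * (s : (Matrix (Fin 4) (Fin 4) F)) = S' * K := by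
          intro S' h'
          rw [hK, smul_mul_assoc, h', mul_smul_comm]
        rcases hP.comm u u.2 s hs with h1 | h1 <;> rcases hP.comm b hbR s hs with h1' | h1'
        · refine ⟨s, hs, Units.ext (key _ ?_)⟩
          change U * (s : (Matrix (Fin 4) (Fin 4) F)) = _ at h1; change B * (s : (Matrix (Fin 4) (Fin 4) F)) = _ at h1'
          simp only [add_mul, sub_mul, mul_add, mul_sub, one_mul, mul_one, mul_assoc, h1, h1']
          rw [← mul_assoc U, h1, mul_assoc]
        · refine ⟨s * u, mul_mem hs u.2, Units.ext ((key _ ?_).trans (by rw [Units.val_mul]))⟩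
          change U * (s : (Matrix (Fin 4) (Fin 4) F)) = _ at h1; change B * (s : (Matrix (Fin 4) (Fin 4) F)) = _ at h1'
          rw [Units.val_mul, ← hU]
          have e3 : ∀ y : (Matrix (Fin 4) (Fin 4) F), U * (U * y) = y := fun y => by rw [← mul_assoc, Euu, one_mul]
          simp only [add_mul, sub_mul, mul_add, mul_sub, one_mul, mul_one, mul_assoc, h1, h1', mul_neg, Euu, e3]
          rw [← mul_assoc U (s : (Matrix (Fin 4) (Fin 4) F)), h1, mul_assoc]
          module
        · refine ⟨s * b, mul_mem hs hbR, Units.ext ((key _ ?_).trans (by rw [Units.val_mul]))⟩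
          change U * (s : (Matrix (Fin 4) (Fin 4) F)) = _ at h1; change B * (s : (Matrix (Fin 4) (Fin 4) F)) = _ at h1'
          rw [Units.val_mul, ← hB]
          have e4 : ∀ y : (Matrix (Fin 4) (Fin 4) F), B * (B * y) = y := fun y => by rw [← mul_assoc, hBB, one_mul]
          have e2 : B * (U * B) = U := by rw [hUB, e4]
          simp only [add_mul, sub_mul, mul_add, mul_sub, one_mul, mul_one, mul_assoc, h1, h1', mul_neg, hBB, e2]
          rw [← mul_assoc U (s : (Matrix (Fin 4) (Fin 4) F)), h1, neg_mul, mul_assoc, ← hUB]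
          module
        · refine ⟨-(s * (u * b)), hP.neg_mem (mul_mem hs (mul_mem u.2 hbR)),
            Units.ext ((key _ ?_).trans (by simp only [Units.val_neg, Units.val_mul]; rfl))⟩
          change U * (s : (Matrix (Fin 4) (Fin 4) F)) = _ at h1; change B * (s : (Matrix (Fin 4) (Fin 4) F)) = _ at h1'
          simp only [Units.val_neg, Units.val_mul, ← hU, ← hB]
          have e2 : ∀ y : (Matrix (Fin 4) (Fin 4) F), B * (U * y) = U * (B * y) := fun y => by rw [← mul_assoc, ← hUB, mul_assoc]
          have e3 : ∀ y : (Matrix (Fin 4) (Fin 4) F), U * (U * y) = y := fun y => by rw [← mul_assoc, Euu, one_mul]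
          simp only [add_mul, sub_mul, mul_add, mul_sub, one_mul, mul_one, mul_assoc, h1, h1', mul_neg, neg_mul,
            e2, e3, ← hUB, Euu, hBB]
          rw [← mul_assoc U (s : (Matrix (Fin 4) (Fin 4) F)), h1, neg_mul, mul_assoc]
          module
      have hKN : Ku ∈ Cfsg.Geo.subgroupNormalizer R := by
        have h1 : ∀ s ∈ R, Ku * s * Ku⁻¹ ∈ R := fun s hs => by
          obtain ⟨s', hs', e'⟩ := hconjK s hs
          rwa [e', mul_inv_cancel_right]
        refine fun s => ⟨h1 s, fun hs => ?_⟩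
        have h2' := h1 _ hs
        have hinv : Ku⁻¹ = Ku := rfl
        have hk2 : Ku * Ku = 1 := Units.ext hKK
        rwa [hinv, show Ku * (Ku * s * Ku) * Ku = (Ku * Ku) * s * (Ku * Ku) by simp only [mul_assoc], hk2, one_mul,
          mul_one] at h2'
      have hKtr : K.trace = 2 := by
        have hU0 : U.trace = 0 := hP.trace_eq_zero h2 u.2 fun ⟨l, hl⟩ => by
          change U = l • 1 at hl
          have h' := Euv
          rw [hl, smul_mul_assoc, one_mul, mul_smul_comm, mul_one, eq_neg_iff_add_eq_zero, ← two_smul F, smul_smul] at h'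
          have hl0 := (mul_eq_zero.mp ((smul_eq_zero.mp h').resolve_right (Units.ne_zero _))).resolve_left h2
          exact Units.ne_zero (u : GL (Fin 4) F) (by change U = 0; rw [hl, hl0, zero_smul])
        have hnsU : ∀ s : R, ((s : GL (Fin 4) F) : (Matrix (Fin 4) (Fin 4) F)) * ((j : GL (Fin 4) F) : (Matrix (Fin 4) (Fin 4) F)) =
            -(((j : GL (Fin 4) F) : (Matrix (Fin 4) (Fin 4) F)) * ((s : GL (Fin 4) F) : (Matrix (Fin 4) (Fin 4) F))) → ((s : GL (Fin 4) F) : (Matrix (Fin 4) (Fin 4) F)).trace = 0 := by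
          intro s hsj
          refine hP.trace_eq_zero h2 s.2 fun ⟨l, hl⟩ => ?_
          rw [hl, smul_mul_assoc, one_mul, mul_smul_comm, mul_one, eq_neg_iff_add_eq_zero, ← two_smul F, smul_smul] at hsj
          have hl0 := (mul_eq_zero.mp ((smul_eq_zero.mp hsj).resolve_right (Units.ne_zero _))).resolve_left h2
          exact Units.ne_zero (s : GL (Fin 4) F) (by rw [hl, hl0, zero_smul])
        have hb0 : B.trace = 0 := hnsU (w * i) (by
          rw [← hb, ← hB, hbv, smul_mul_assoc, Eij, smul_neg, mul_smul_comm])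
        have hub0 : (U * B).trace = 0 := by
          have := hnsU (u * (w * i)) (by
            rw [Subgroup.coe_mul, Units.val_mul, ← hb, ← hB, hbv, ← hU, mul_smul_comm, smul_mul_assoc, mul_assoc, Eij,
              mul_neg, ← mul_assoc U, ← Eju, smul_neg, mul_smul_comm, mul_assoc])
          rwa [Subgroup.coe_mul, Units.val_mul, ← hb, ← hB, ← hU] at this
        rw [hK, Matrix.trace_smul, Matrix.trace_sub, Matrix.trace_add, Matrix.trace_add, hU0, hb0, hub0,
          Matrix.trace_one, Fintype.card_fin, smul_eq_mul]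
        field_simp
        norm_num
      have hadjU : adj (conjHom hF) U = U := by
        rw [hU, adj_eq_inv hF (hRU u.2)]
        exact left_inv_eq_right_inv (Units.inv_mul _) (by rw [← hU]; exact Euu)
      have hadjB : adj (conjHom hF) B = B := by
        rw [hB, adj_eq_inv hF (hRU (show b ∈ R from (w * i : R).2))]
        exact left_inv_eq_right_inv (Units.inv_mul _) (by rw [← hB]; exact hBB)
      have hadjK : adj (conjHom hF) K = K := by
        rw [hK, adj_smul, adj_sub, adj_add, adj_add, adj_one, adj_mul, hadjU, hadjB, map_inv₀, map_ofNat, hUB]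
      have hKU : Ku ∈ Cfsg.GU 4 F p := mem_GU_of_inv hF hadjK
      have hUK : U * K = K * U := by
        rw [hK, mul_smul_comm, smul_mul_assoc]
        congr 1
        simp only [mul_add, add_mul, mul_sub, sub_mul, mul_one, one_mul, mul_assoc, ← hUB]
      have hUne : ∀ l : F, U ≠ l • 1 := fun l hl => by
        have h' := Euv
        rw [hl, smul_mul_assoc, one_mul, mul_smul_comm, mul_one, eq_neg_iff_add_eq_zero, ← two_smul F, smul_smul] at h'
        have hl0 := (mul_eq_zero.mp ((smul_eq_zero.mp h').resolve_right (Units.ne_zero _))).resolve_left h2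
        exact Units.ne_zero (u : (GL (Fin 4) F)) (by change U = 0; rw [hl, hl0, zero_smul])
      have hKne : K ≠ -1 := by
        intro hK1
        have hK' : 1 + U + B - U * B = (-2 : F) • (1 : (Matrix (Fin 4) (Fin 4) F)) := by
          have h' := congrArg (fun A : (Matrix (Fin 4) (Fin 4) F) => (2 : F) • A) hK1
          simp only [hK, smul_smul, mul_inv_cancel₀ h2, one_smul] at h'
          rw [h']; module
        have h4 := congrArg (fun A => (1 + U) * A) hK'
        simp only [mul_add, add_mul, mul_sub, one_mul, mul_one, mul_smul_comm, ← mul_assoc, Euu] at h4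
        have h5 : (4 : F) • (1 + U) = 0 := by linear_combination (norm := module) h4
        have h6 := (smul_eq_zero.mp h5).resolve_left (by
          rw [show (4 : F) = 2 * 2 by norm_num]; exact mul_ne_zero h2 h2)
        exact hUne (-1) (by rw [neg_one_smul]; exact eq_neg_of_add_eq_zero_right h6)
      have hKns : ∀ l : F, K ≠ l • 1 := by
        intro l hl
        have h := hKK
        rw [hl, smul_mul_smul_comm, one_mul] at h
        have h' := congrFun (congrFun h 0) 0
        simp at h'
        rcases mul_self_eq_one_iff.mp h' with e1 | e1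
        · have ht := hKtr
          rw [hl, e1, one_smul, Matrix.trace_one, Fintype.card_fin] at ht
          exact h2 (by push_cast at ht; linear_combination ht)
        · exact hKne (by rw [hl, e1, neg_one_smul])
      obtain ⟨t, htN, htU, htns, htK, htt, httr⟩ : ∃ t : (GL (Fin 4) F), t ∈ Cfsg.Geo.subgroupNormalizer R ∧ t ∈ Cfsg.GU 4 F p ∧
          (∀ l : F, (t : (Matrix (Fin 4) (Fin 4) F)) ≠ l • 1) ∧ (t : (Matrix (Fin 4) (Fin 4) F)) * K = K * t ∧ (t : (Matrix (Fin 4) (Fin 4) F)) * t = 1 ∧ Matrix.trace (t : (Matrix (Fin 4) (Fin 4) F)) = (e : (Matrix (Fin 4) (Fin 4) F)).trace := by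
        have hval : (e : (Matrix (Fin 4) (Fin 4) F)).trace = 2 * (a : F) - 4 := htre.trans (hd a ha4)
        interval_cases a
        · exfalso
          refine hens (-1) ?_
          have : Matrix.diagonal (fun j : Fin 4 => if (j : ℕ) < 0 then (1 : F) else -1) = -(1 : (Matrix (Fin 4) (Fin 4) F)) := by
            rw [← Matrix.diagonal_one, Matrix.diagonal_neg]; congr 1
          rw [this, mul_neg, mul_one] at hPN
          have hu : IsUnit P.det := isUnit_iff_ne_zero.mpr hPd
          rw [← Matrix.mul_nonsing_inv_cancel_right (A := P) (e : (Matrix (Fin 4) (Fin 4) F)) hu, hPN, neg_mul, Matrix.mul_nonsing_inv _ hu, neg_one_smul]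
        · refine ⟨-Ku, ?_, ?_, fun l hl => hKns (-l) (by rw [Units.val_neg, hKu] at hl; rw [neg_smul, ← hl, neg_neg]),
            by rw [Units.val_neg, hKu, neg_mul, mul_neg],
            by rw [Units.val_neg, neg_mul_neg]; exact hKK,
            by rw [Units.val_neg, Matrix.trace_neg, hKu, hKtr, hval]; push_cast; ring⟩
          · have h := mul_mem (show (-1 : (GL (Fin 4) F)) ∈ Cfsg.Geo.subgroupNormalizer R from
              Subgroup.le_normalizer hP.negmem) hKN
            rwa [neg_one_mul] at h
          · have h := mul_mem (hRU hP.negmem) hKU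
            rwa [neg_one_mul] at h
        · refine ⟨u, Subgroup.le_normalizer u.2, hRU u.2, hUne, hUK, Euu, ?_⟩
          rw [hval, hP.trace_eq_zero h2 u.2 fun ⟨l, hl⟩ => ?_]
          · push_cast; ring
          · change U = l • 1 at hl
            have h' := Euv
            rw [hl, smul_mul_assoc, one_mul, mul_smul_comm, mul_one, eq_neg_iff_add_eq_zero, ← two_smul F, smul_smul] at h'
            have hl0 := (mul_eq_zero.mp ((smul_eq_zero.mp h').resolve_right (Units.ne_zero _))).resolve_left h2
            exact Units.ne_zero (u : (GL (Fin 4) F)) (by change U = 0; rw [hl, hl0, zero_smul])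
        · exact ⟨Ku, hKN, hKU, hKns, rfl, hKK, by rw [hKu, hKtr, hval]; push_cast; ring⟩
        · exfalso
          refine hens 1 ?_
          have : Matrix.diagonal (fun j : Fin 4 => if (j : ℕ) < 4 then (1 : F) else -1) = (1 : (Matrix (Fin 4) (Fin 4) F)) := by
            rw [← Matrix.diagonal_one]; congr 1; funext j; simp [j.isLt]
          rw [this, mul_one] at hPN
          have hu : IsUnit P.det := isUnit_iff_ne_zero.mpr hPd
          rw [← Matrix.mul_nonsing_inv_cancel_right (A := P) (e : (Matrix (Fin 4) (Fin 4) F)) hu, hPN, Matrix.mul_nonsing_inv _ hu, one_smul]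
      obtain ⟨a', ha', Q, hQd, hQN⟩ := SLConj.exists_diag_basis h2 htt
      have haa : a' = a := by
        have h' := SLConj.trace_eq_of_basis hQd hQN
        rw [httr, htre, hd a ha4, hd a' ha'] at h'
        have h5 : ((a : ℕ) : F) = (a' : F) := mul_left_cancel₀ h2 (by linear_combination h')
        rw [CharP.natCast_eq_natCast F p, Nat.ModEq] at h5
        by_cases hp5 : 5 ≤ p
        · rw [Nat.mod_eq_of_lt (by omega), Nat.mod_eq_of_lt (by omega)] at h5
          exact h5.symm
        · have hp3 : p = 3 := by omega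
          rw [hp3] at h5
          by_contra hne'
          have hex : ∀ a a' : ℕ, a ≤ 4 → a' ≤ 4 → a % 3 = a' % 3 → a' ≠ a → a = 0 ∨ a' = 0 ∨ a = 4 ∨ a' = 4 := by omega
          rcases hex a a' ha4 ha' h5 hne' with h0 | h0 | h0 | h0
          · subst h0
            exact hens (-1) (scal_of_diag hPd hPN (fun j => if_neg (Nat.not_lt_zero _)))
          · subst h0
            exact htns (-1) (scal_of_diag hQd hQN (fun j => if_neg (Nat.not_lt_zero _)))
          · subst h0
            exact hens 1 (scal_of_diag hPd hPN (fun j => if_pos j.isLt))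
          · subst h0
            exact htns 1 (scal_of_diag hQd hQN (fun j => if_pos j.isLt))
      subst haa
      obtain ⟨g₁, -, hg₁⟩ := SLConj.exists_conj_SL hPd hQd hPN hQN fun d hd =>
        ⟨Matrix.diagonal ![d, 1, 1, 1], by simp [Matrix.det_diagonal, Fin.prod_univ_four], SLConj.diag_comm _ d⟩
      have hE2 : ((2 : F)⁻¹ • (1 - K)) * ((2 : F)⁻¹ • (1 - K)) = (2 : F)⁻¹ • (1 - K) := by
        rw [smul_mul_smul_comm]
        simp only [sub_mul, mul_sub, one_mul, mul_one, hKK]
        match_scalars <;> field_simp <;> ring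
      obtain ⟨g, hgS, hg⟩ := exists_conj_SU hF h2 heU htU (g₁ := g₁⁻¹) (by rw [inv_inv]; exact hg₁) hE2
        (by rw [Matrix.trace_smul, Matrix.trace_sub, hKtr, Matrix.trace_one, Fintype.card_fin, smul_eq_mul]
            field_simp; norm_num)
        (fun h1 => hKne (by
          have h2' := congrArg (fun A : (Matrix (Fin 4) (Fin 4) F) => (2 : F) • A) h1
          simp only [smul_smul, mul_inv_cancel₀ h2, one_smul] at h2'
          linear_combination (norm := module) -h2'))
        (by rw [mul_smul_comm, smul_mul_assoc, mul_sub, sub_mul, mul_one, one_mul, htK])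
        (by rw [adj_smul, adj_sub, adj_one, hadjK, map_inv₀, map_ofNat])
      refine ⟨g, hgS, S6000.scalar_absorb (inv_ne_zero hc0) ?_⟩
      rw [hg]
      exact htN
    · -- order three
      have hp7 : 5 ≤ p := by omega
      have h3 : (3 : F) ≠ 0 := fun e => by
        have := (CharP.cast_eq_zero_iff F p 3).mp (by exact_mod_cast e)
        exact absurd (Nat.le_of_dvd (by norm_num) this) (by omega)
      have hcop : Nat.Coprime (p + 1) 3 := by
        rw [Nat.coprime_comm, Nat.prime_three.coprime_iff_not_dvd]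
        omega
      obtain ⟨o, ho⟩ := exists_prime_orderOf_dvd_card' (G := Fˣ) 3 (by
        rw [Nat.card_units, Nat.card_eq_fintype_card, hF]
        refine (Nat.modEq_iff_dvd' (Nat.one_le_pow _ _ hp.pos)).mp ?_
        rw [Nat.ModEq, Nat.pow_mod, hpr])
      obtain ⟨ω, hωd⟩ : ∃ ω, ω = (o : F) := ⟨_, rfl⟩
      have hω3 : ω ^ 3 = 1 := by rw [hωd, ← Units.val_pow_eq_pow_val, ← ho, pow_orderOf_eq_one, Units.val_one]
      have hω1 : ω ≠ 1 := fun e => by
        rw [hωd, Units.val_eq_one] at e
        rw [e, orderOf_one] at ho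
        omega
      have hω : ω * ω + ω + 1 = 0 :=
        (mul_eq_zero.mp (show (ω - 1) * (ω * ω + ω + 1) = 0 by linear_combination hω3)).resolve_left (sub_ne_zero.mpr hω1)
      have hωσ : conjHom hF ω = ω := by rw [← hσ, hσp, pow_eq_pow_mod p hω3, hpr, pow_one]
      obtain ⟨d, hd, hxr, hxS'⟩ := exists_normalised hF hcop hxU hz
      have hX3 : ((scal hd * x : (GL (Fin 4) F)) : (Matrix (Fin 4) (Fin 4) F)) * ((scal hd * x : (GL (Fin 4) F)) : (Matrix (Fin 4) (Fin 4) F)) * ((scal hd * x : (GL (Fin 4) F)) : (Matrix (Fin 4) (Fin 4) F)) = 1 := by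
        rw [← Units.val_mul, ← Units.val_mul, ← pow_three', hxr, Units.val_one]
      set X : (GL (Fin 4) F) := scal hd * x with hXd
      have hX1 : (X : (Matrix (Fin 4) (Fin 4) F)) ≠ 1 := fun e' => hns d⁻¹ (by
        rw [hXd, Units.val_mul, scal_val, smul_mul_assoc, one_mul] at e'
        rw [← e', smul_smul, inv_mul_cancel₀ hd, one_smul])
      have hquat : ∀ {a b : GL (Fin 4) F}, a ∈ R → b ∈ R → (ha : (a : (Matrix (Fin 4) (Fin 4) F)) * a = -1) → (hb : (b : (Matrix (Fin 4) (Fin 4) F)) * b = -1) →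
          (a : (Matrix (Fin 4) (Fin 4) F)) * b = -((b : (Matrix (Fin 4) (Fin 4) F)) * a) → ∃ Y : GL (Fin 4) F, Y ∈ Cfsg.Geo.subgroupNormalizer R ∧
            (Y : (Matrix (Fin 4) (Fin 4) F)) = (-(2 : F)⁻¹) • ((1 + (a : (Matrix (Fin 4) (Fin 4) F))) * (1 + (b : (Matrix (Fin 4) (Fin 4) F)))) ∧ (Y : (Matrix (Fin 4) (Fin 4) F)) * Y + Y + 1 = 0 := by
        intro a b haR hbR ha hb hab
        refine ⟨scal (neg_ne_zero.mpr (inv_ne_zero h2)) * onePlus h2 (a : (Matrix (Fin 4) (Fin 4) F)) ha * onePlus h2 (b : (Matrix (Fin 4) (Fin 4) F)) hb,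
          mul_mem (mul_mem (scal_mem_normalizer _ R) (onePlus_mem hP h2 haR ha)) (onePlus_mem hP h2 hbR hb), ?_, ?_⟩
        · simp only [Units.val_mul, onePlus_val, scal_val, smul_mul_assoc, one_mul]
        · simp only [Units.val_mul, onePlus_val, scal_val, smul_mul_assoc, one_mul, mul_smul_comm, smul_smul]
          rw [S6000.quat_order_three ha hb hab]
          match_scalars <;> field_simp <;> ring
      obtain ⟨Y, hYN, hYv, hY⟩ := hquat i.2 j.2 Eii Ejj Eij
      set A' : GL (Fin 4) F := ((u * v : R) : GL (Fin 4) F) with hA'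
      set B' : GL (Fin 4) F := ((w * u : R) : GL (Fin 4) F) with hB'
      have hA'v : (A' : (Matrix (Fin 4) (Fin 4) F)) = ((u : GL (Fin 4) F) : (Matrix (Fin 4) (Fin 4) F)) * ((v : GL (Fin 4) F) : (Matrix (Fin 4) (Fin 4) F)) := by simp [hA']
      have hB'v : (B' : (Matrix (Fin 4) (Fin 4) F)) = ι • ((u : GL (Fin 4) F) : (Matrix (Fin 4) (Fin 4) F)) := by simp [hB', hw]
      set U : (Matrix (Fin 4) (Fin 4) F) := ((u : GL (Fin 4) F) : (Matrix (Fin 4) (Fin 4) F))
      set Vv : (Matrix (Fin 4) (Fin 4) F) := ((v : GL (Fin 4) F) : (Matrix (Fin 4) (Fin 4) F))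
      have hUA : U * (A' : (Matrix (Fin 4) (Fin 4) F)) = -((A' : (Matrix (Fin 4) (Fin 4) F)) * U) := by
        rw [hA'v, mul_assoc U Vv U, show Vv * U = -(U * Vv) by rw [Euv, neg_neg], mul_neg, neg_neg]
      have hA'2 : (A' : (Matrix (Fin 4) (Fin 4) F)) * A' = -1 := by
        conv_lhs => arg 1; rw [hA'v]
        rw [mul_assoc, hA'v, ← mul_assoc Vv, show Vv * U = -(U * Vv) by rw [Euv, neg_neg], neg_mul, mul_assoc, Evv,
          mul_one, mul_neg, Euu]
      have hB'2 : (B' : (Matrix (Fin 4) (Fin 4) F)) * B' = -1 := by rw [hB'v, smul_mul_smul_comm, Euu, hι, neg_one_smul]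
      have hA'B' : (A' : (Matrix (Fin 4) (Fin 4) F)) * B' = -((B' : (Matrix (Fin 4) (Fin 4) F)) * A') := by
        rw [hB'v, mul_smul_comm, smul_mul_assoc, hUA, smul_neg, neg_neg]
      obtain ⟨Y', hY'N, hY'v, hY'⟩ := hquat (u * v : R).2 (w * u : R).2 hA'2 hB'2 hA'B'
      have hYU : ∀ W' : (Matrix (Fin 4) (Fin 4) F), ((i : GL (Fin 4) F) : (Matrix (Fin 4) (Fin 4) F)) * W' = W' * ((i : GL (Fin 4) F) : (Matrix (Fin 4) (Fin 4) F)) →
          ((j : GL (Fin 4) F) : (Matrix (Fin 4) (Fin 4) F)) * W' = W' * ((j : GL (Fin 4) F) : (Matrix (Fin 4) (Fin 4) F)) → (Y : (Matrix (Fin 4) (Fin 4) F)) * W' = W' * Y := by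
        intro W' h1 h1'
        rw [hYv, smul_mul_assoc, mul_smul_comm]
        congr 1
        simp only [add_mul, mul_add, one_mul, mul_one, mul_assoc, h1, h1']
        rw [← mul_assoc _ W', h1, mul_assoc]
      have hYY' : (Y : (Matrix (Fin 4) (Fin 4) F)) * Y' = Y' * Y := by
        have hUV : ∀ W' : (Matrix (Fin 4) (Fin 4) F), W' * U = U * W' → W' * Vv = Vv * W' → W' * Y' = Y' * W' := by
          intro W' h1 h1'
          have hWA : W' * (A' : (Matrix (Fin 4) (Fin 4) F)) = A' * W' := by rw [hA'v, ← mul_assoc, h1, mul_assoc, h1', mul_assoc]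
          have hWB : W' * (B' : (Matrix (Fin 4) (Fin 4) F)) = B' * W' := by rw [hB'v, mul_smul_comm, h1, smul_mul_assoc]
          rw [hY'v, smul_mul_assoc, mul_smul_comm, ← mul_assoc, ← one_add_comm hWA.symm, mul_assoc,
            ← one_add_comm hWB.symm, mul_assoc]
        exact hUV _ (hYU U Eiu Eju) (hYU Vv Eiv Ejv)
      have hnotU : U * (Y' : (Matrix (Fin 4) (Fin 4) F)) ≠ Y' * U := by
        intro hc'
        rw [hY'v, mul_smul_comm, smul_mul_assoc] at hc'
        have h' := smul_right_injective (Matrix (Fin 4) (Fin 4) F) (neg_ne_zero.mpr (inv_ne_zero h2)) hc'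
        have hUB : U * (1 + (B' : (Matrix (Fin 4) (Fin 4) F))) = (1 + (B' : (Matrix (Fin 4) (Fin 4) F))) * U := by
          rw [hB'v, mul_add, add_mul, mul_one, one_mul, mul_smul_comm, smul_mul_assoc]
        rw [← mul_assoc, mul_assoc (1 + (A' : (Matrix (Fin 4) (Fin 4) F))) _ U, ← hUB, ← mul_assoc] at h'
        have h'' : U * (1 + (A' : (Matrix (Fin 4) (Fin 4) F))) = (1 + (A' : (Matrix (Fin 4) (Fin 4) F))) * U := by
          have hu : IsUnit (1 + (B' : (Matrix (Fin 4) (Fin 4) F))) := (onePlus h2 (B' : (Matrix (Fin 4) (Fin 4) F)) hB'2).isUnit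
          exact hu.mul_right_cancel h'
        rw [mul_add, add_mul, mul_one, one_mul, hUA, add_right_inj, neg_eq_iff_add_eq_zero, ← two_smul F] at h''
        exact Units.ne_zero (A' * (u : GL (Fin 4) F))
          (by rw [Units.val_mul]; exact (smul_eq_zero.mp h'').resolve_left h2)
      set T : (GL (Fin 4) F) := Y * Y' with hT
      have hsub : ∀ W' : (Matrix (Fin 4) (Fin 4) F), W' * W' + W' + 1 = 0 → W' * W' * W' = 1 := fun W' h' => by
        rw [← sub_eq_zero, show W' * W' * W' - 1 = (W' - 1) * (W' * W' + W' + 1) by noncomm_ring, h', mul_zero]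
      have hT3 : (T : (Matrix (Fin 4) (Fin 4) F)) * T * T = 1 := by
        rw [hT, Units.val_mul]
        have h := (show Commute (Y : (Matrix (Fin 4) (Fin 4) F)) Y' from hYY').mul_pow 3
        simp only [pow_succ, pow_zero, one_mul] at h
        rw [h, hsub _ hY, hsub _ hY', one_mul]
      have hYU' : (Y : (Matrix (Fin 4) (Fin 4) F)) * U = U * Y := hYU U Eiu Eju
      have hTB : (T : (Matrix (Fin 4) (Fin 4) F)) * T + T + 1 ≠ 0 := by
        intro e'
        apply hnotU
        rw [hT, Units.val_mul, show (Y : (Matrix (Fin 4) (Fin 4) F)) * Y' * (Y * Y') = (Y : (Matrix (Fin 4) (Fin 4) F)) * Y * (Y' * Y') by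
          rw [mul_assoc, ← mul_assoc (Y' : (Matrix (Fin 4) (Fin 4) F)), ← hYY']; simp only [mul_assoc]] at e'
        have h1 : (Y : (Matrix (Fin 4) (Fin 4) F)) * Y = -Y - 1 := by rw [← sub_eq_zero, ← hY]; abel
        have h1' : (Y' : (Matrix (Fin 4) (Fin 4) F)) * Y' = -Y' - 1 := by rw [← sub_eq_zero, ← hY']; abel
        rw [h1, h1'] at e'
        have h2' : ((2 : F) • (Y : (Matrix (Fin 4) (Fin 4) F)) + 1) * Y' = -(Y : (Matrix (Fin 4) (Fin 4) F)) - (2 : F) • 1 := by
          rw [← sub_eq_zero, ← e']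
          simp only [add_mul, sub_mul, neg_mul, mul_sub, mul_neg, one_mul, mul_one, smul_mul_assoc]
          module
        have hc2 : ((2 : F) • (Y : (Matrix (Fin 4) (Fin 4) F)) + 1) * U = U * ((2 : F) • (Y : (Matrix (Fin 4) (Fin 4) F)) + 1) := by
          rw [add_mul, mul_add, one_mul, mul_one, smul_mul_assoc, mul_smul_comm, hYU']
        have hsq : ((2 : F) • (Y : (Matrix (Fin 4) (Fin 4) F)) + 1) * ((2 : F) • (Y : (Matrix (Fin 4) (Fin 4) F)) + 1) = (-3 : F) • 1 := by
          simp only [add_mul, mul_add, one_mul, mul_one, smul_mul_smul_comm, h1]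
          module
        have h4 : ((2 : F) • (Y : (Matrix (Fin 4) (Fin 4) F)) + 1) * (U * Y' - Y' * U) = 0 := by
          rw [mul_sub, ← mul_assoc, ← mul_assoc, hc2, mul_assoc, h2', mul_sub, sub_mul, mul_neg, neg_mul,
            smul_mul_assoc, mul_smul_comm, one_mul, mul_one, hYU', sub_self]
        have h5 := congrArg (fun W' => ((2 : F) • (Y : (Matrix (Fin 4) (Fin 4) F)) + 1) * W') h4
        simp only [← mul_assoc, hsq, smul_mul_assoc, one_mul, mul_zero] at h5
        exact sub_eq_zero.mp ((smul_eq_zero.mp h5).resolve_left (neg_ne_zero.mpr h3))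
      have hsim : ∀ {a b : (GL (Fin 4) F)}, a ∈ R → b ∈ R → (a : (Matrix (Fin 4) (Fin 4) F)) * a = -1 → (b : (Matrix (Fin 4) (Fin 4) F)) * b = -1 →
          ∀ W' : (GL (Fin 4) F), (W' : (Matrix (Fin 4) (Fin 4) F)) = (-(2 : F)⁻¹) • ((1 + (a : (Matrix (Fin 4) (Fin 4) F))) * (1 + (b : (Matrix (Fin 4) (Fin 4) F)))) → W' ∈ Cfsg.GU 4 F p := by
        intro a b haR hbR ha hb W' hW'
        have h := (simil_scal hF (neg_ne_zero.mpr (inv_ne_zero h2))).mul
          ((simil_onePlus hF h2 (hRU haR) ha).mul (simil_onePlus hF h2 (hRU hbR) hb))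
        refine (mem_GU_adj hF W').2 ?_
        rw [scal_val, onePlus_val, onePlus_val, smul_mul_assoc, one_mul, ← hW'] at h
        rw [show _ = _ from h, map_neg, map_inv₀, map_ofNat]
        rw [show -(2 : F)⁻¹ * -(2 : F)⁻¹ * (2 * 2) = 1 by field_simp, one_smul]
      have hYU0 : Y ∈ Cfsg.GU 4 F p := hsim i.2 j.2 Eii Ejj Y hYv
      have hY'U : Y' ∈ Cfsg.GU 4 F p := hsim (u * v : R).2 (w * u : R).2 hA'2 hB'2 Y' hY'v
      have hT1 : (T : (Matrix (Fin 4) (Fin 4) F)) ≠ 1 := by
        intro e'
        apply hTB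
        exfalso
        apply hnotU
        rw [hT, Units.val_mul] at e'
        have hY'i : (Y' : (Matrix (Fin 4) (Fin 4) F)) = ((Y⁻¹ : (GL (Fin 4) F)) : (Matrix (Fin 4) (Fin 4) F)) := (left_inv_eq_right_inv (Units.inv_mul _) e').symm
        rw [hY'i]
        exact (Commute.units_inv_left (show Commute (Y : (Matrix (Fin 4) (Fin 4) F)) U from hYU')).eq.symm
      have tr2 : ∀ W' : (GL (Fin 4) F), W' ∈ Cfsg.GU 4 F p → (W' : (Matrix (Fin 4) (Fin 4) F)) * W' + W' + 1 = 0 → (W' : (Matrix (Fin 4) (Fin 4) F)).trace = -2 := by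
        intro W' hW' hq
        rcases three_class hF hp7 hω hωσ hW' (hsub _ hq) (fun e => h3 (by
          have h0 := congrFun (congrFun hq 0) 0
          rw [e] at h0; simp at h0; linear_combination h0)) with h | h
        · exact h.1
        · exact absurd hq h.2
      have hTtr : (T : (Matrix (Fin 4) (Fin 4) F)).trace = 1 := by
        rcases three_class hF hp7 hω hωσ (mul_mem hYU0 hY'U) hT3 hT1 with h | h
        · exact absurd h.2 hTB
        · exact h.1
      -- an idempotent of rank one
      obtain ⟨q, hq⟩ : ∃ q, q = ω - ω * ω := ⟨_, rfl⟩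
      have hq0 : q ≠ 0 := fun e => hω1 (by
        have h : ω * (1 - ω) = 0 := by rw [hq] at e; linear_combination e
        exact (sub_eq_zero.mp ((mul_eq_zero.mp h).resolve_left fun e0 => by
          rw [e0] at hω; simp at hω)).symm)
      have hproj : ∀ W' : (Matrix (Fin 4) (Fin 4) F), W' * W' + W' + 1 = 0 → (q⁻¹ • (W' - (ω * ω) • 1)) * (q⁻¹ • (W' - (ω * ω) • 1)) =
          q⁻¹ • (W' - (ω * ω) • 1) := by
        intro W' h'
        have e : (W' - (ω * ω) • 1) * (W' - (ω * ω) • 1) = q • (W' - (ω * ω) • 1) := by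
          rw [hq]
          simp only [sub_mul, mul_sub, smul_mul_assoc, mul_smul_comm, one_mul, mul_one, smul_smul, smul_sub]
          rw [show W' * W' = -W' - 1 by rw [← sub_eq_zero, ← h']; abel]
          match_scalars <;> first | linear_combination -hω | linear_combination hω | linear_combination (ω * ω - ω) * hω | linear_combination (-(ω * ω) + ω) * hω | linear_combination (ω - 1) * hω | linear_combination (1 - ω) * hω | linear_combination -ω * hω3 + hω | linear_combination hω3
        rw [smul_mul_smul_comm, e, smul_smul, mul_assoc, inv_mul_cancel₀ hq0, mul_one]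
      set E : (Matrix (Fin 4) (Fin 4) F) := (q⁻¹ • ((Y : (Matrix (Fin 4) (Fin 4) F)) - (ω * ω) • 1)) * (q⁻¹ • ((Y' : (Matrix (Fin 4) (Fin 4) F)) - (ω * ω) • 1)) with hE
      have hcY : ∀ a b : (Matrix (Fin 4) (Fin 4) F), Commute a b → ∀ c d : F, Commute (q⁻¹ • (a - c • 1)) (q⁻¹ • (b - d • 1)) :=
        fun a b h c d => ((h.sub_right ((Commute.one_right a).smul_right d)).sub_left
          (((Commute.one_left _).smul_left c))).smul_left q⁻¹ |>.smul_right q⁻¹
      have hEE : E * E = E := by
        rw [hE, Commute.mul_mul_mul_comm (hcY _ _ (show Commute (Y' : (Matrix (Fin 4) (Fin 4) F)) Y from hYY'.symm) _ _), hproj _ hY, hproj _ hY']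
      have hEtr : E.trace = 1 := by
        rw [hE, smul_mul_smul_comm]
        simp only [sub_mul, mul_sub, smul_mul_assoc, mul_smul_comm, one_mul, mul_one, smul_smul, Matrix.trace_smul,
          Matrix.trace_sub, Matrix.trace_one, Fintype.card_fin, smul_eq_mul]
        rw [← Units.val_mul, ← hT, hTtr, tr2 Y hYU0 hY, tr2 Y' hY'U hY']
        field_simp
        rw [hq]
        push_cast
        first | linear_combination (3 * ω ^ 2 - ω + 1) * hω | linear_combination -(3 * ω ^ 2 - ω + 1) * hω
      have hE1 : E ≠ 1 := fun e' => by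
        rw [e', Matrix.trace_one, Fintype.card_fin] at hEtr
        exact h3 (by push_cast at hEtr; linear_combination hEtr)
      have hadjE : adj (conjHom hF) E = (q⁻¹ • (((Y'⁻¹ : (GL (Fin 4) F)) : (Matrix (Fin 4) (Fin 4) F)) - (ω * ω) • 1)) *
          (q⁻¹ • (((Y⁻¹ : (GL (Fin 4) F)) : (Matrix (Fin 4) (Fin 4) F)) - (ω * ω) • 1)) := by
        have hσq : conjHom hF q⁻¹ = q⁻¹ := by rw [map_inv₀, hq, map_sub, map_mul, hωσ]
        rw [hE, adj_mul, adj_smul, adj_smul, adj_sub, adj_sub, adj_smul, adj_one, adj_eq_inv hF hYU0,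
          adj_eq_inv hF hY'U, hσq, map_mul, hωσ]
      have hcomm : ∀ a : (Matrix (Fin 4) (Fin 4) F), Commute a (Y : (Matrix (Fin 4) (Fin 4) F)) → Commute a (Y' : (Matrix (Fin 4) (Fin 4) F)) → Commute a E := fun a h1 h2' => by
        rw [hE]
        exact (((h1.sub_right ((Commute.one_right a).smul_right _))).smul_right q⁻¹).mul_right
          (((h2'.sub_right ((Commute.one_right a).smul_right _))).smul_right q⁻¹)
      have hEE' : adj (conjHom hF) E * E = E * adj (conjHom hF) E := by
        have k : ∀ a : (GL (Fin 4) F), Commute (a : (Matrix (Fin 4) (Fin 4) F)) (Y : (Matrix (Fin 4) (Fin 4) F)) → Commute (a : (Matrix (Fin 4) (Fin 4) F)) (Y' : (Matrix (Fin 4) (Fin 4) F)) →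
            Commute (q⁻¹ • (((a⁻¹ : (GL (Fin 4) F)) : (Matrix (Fin 4) (Fin 4) F)) - (ω * ω) • 1)) E := fun a h1 h2' =>
          ((hcomm _ h1.units_inv_left h2'.units_inv_left).sub_left ((Commute.one_left E).smul_left _)).smul_left _
        rw [hadjE]
        exact ((k Y' (show Commute (Y' : (Matrix (Fin 4) (Fin 4) F)) Y from hYY'.symm) (Commute.refl _)).mul_left
          (k Y (Commute.refl _) hYY')).eq
      have hfin : ∀ t : (GL (Fin 4) F), t ∈ Cfsg.Geo.subgroupNormalizer R → t ∈ Cfsg.GU 4 F p → (t : (Matrix (Fin 4) (Fin 4) F)) * t * t = 1 →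
          (X : (Matrix (Fin 4) (Fin 4) F)).trace = (t : (Matrix (Fin 4) (Fin 4) F)).trace → Commute (t : (Matrix (Fin 4) (Fin 4) F)) (Y : (Matrix (Fin 4) (Fin 4) F)) → Commute (t : (Matrix (Fin 4) (Fin 4) F)) (Y' : (Matrix (Fin 4) (Fin 4) F)) →
          ∃ g ∈ Cfsg.GU 4 F p ⊓ Cfsg.Geo.specialLinear (Fin 4) F, g⁻¹ * x * g ∈ Cfsg.Geo.subgroupNormalizer R := by
        intro t htN htU ht3 httr c1 c2
        have hsq : ∀ W' : (GL (Fin 4) F), W' ∈ Cfsg.GU 4 F p → (W' : (Matrix (Fin 4) (Fin 4) F)) * W' * W' = 1 →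
            ((W' : (Matrix (Fin 4) (Fin 4) F)) * W').trace = conjHom hF (W' : (Matrix (Fin 4) (Fin 4) F)).trace := fun W' hW' h => by
          rw [← trace_inv hF hW', show ((W'⁻¹ : (GL (Fin 4) F)) : (Matrix (Fin 4) (Fin 4) F)) = (W' : (Matrix (Fin 4) (Fin 4) F)) * W' from
            left_inv_eq_right_inv (Units.inv_mul W') (by rw [← mul_assoc, h])]
        have hXU : X ∈ Cfsg.GU 4 F p := (Subgroup.mem_inf.1 hxS').1
        obtain ⟨g₁, hg₁⟩ := isConj_of_trace hp7 hω hX3 ht3 httr
          (by rw [hsq X hXU hX3, hsq t htU ht3, httr])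
        obtain ⟨g, hgS, hg⟩ := exists_conj_SU hF h2 hXU htU hg₁ hEE hEtr hE1 (hcomm _ c1 c2).eq hEE'
        refine ⟨g, hgS, S6000.scalar_absorb hd ?_⟩
        rw [← hXd, hg]
        exact htN
      rcases three_class hF hp7 hω hωσ (Subgroup.mem_inf.1 hxS').1 hX3 hX1 with hA | hA
      · exact hfin Y hYN hYU0 (hsub _ hY) (hA.1.trans (tr2 Y hYU0 hY).symm) (Commute.refl _) hYY'
      · exact hfin T (mul_mem hYN hY'N) (mul_mem hYU0 hY'U) hT3 (hA.1.trans hTtr.symm)
          (by rw [hT, Units.val_mul]; exact (Commute.refl _).mul_left (show Commute (Y' : (Matrix (Fin 4) (Fin 4) F)) Y from hYY'.symm))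
          (by rw [hT, Units.val_mul]; exact (show Commute (Y : (Matrix (Fin 4) (Fin 4) F)) Y' from hYY').mul_left (Commute.refl _))
    · -- order five
      have hcop : Nat.Coprime (p + 1) 5 := by
        rw [Nat.coprime_comm, (by norm_num : Nat.Prime 5).coprime_iff_not_dvd]
        intro hd5
        have := mod_five ho
        omega
      obtain ⟨g, a, b, c, d, h4, ha, hb, hc, hd', haR, hbR, hcR, hdR, hg, hgN, hga, hg5⟩ :=
        exists_five hP h2 i.2 j.2 u.2 v.2 Euu Evv Eii Ejj Euv Eij Eiu Eiv Eju Ejv (by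
          intro X' X1 X2 X3 X4
          refine hP.abs X' fun s hs => ?_
          refine Subgroup.closure_induction (p := fun (s : R) _ => X' * ((s : GL (Fin 4) F) : (Matrix (Fin 4) (Fin 4) F)) = ((s : GL (Fin 4) F) : (Matrix (Fin 4) (Fin 4) F)) * X')
            ?_ (by simp) ?_ ?_ (hgen ⟨s, hs⟩)
          · intro y hy
            simp only [Set.mem_insert_iff, Set.mem_singleton_iff] at hy
            rcases hy with rfl | rfl | rfl | rfl | rfl | rfl
            exacts [by simp, by simp [hw], X1, X2, X3, X4]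
          · intro y y' _ _ e1 e2
            simp only [Subgroup.coe_mul, Units.val_mul]
            rw [← mul_assoc, e1, mul_assoc, e2, mul_assoc]
          · intro y _ e1
            simp only [Subgroup.coe_inv]
            calc X' * (((y : GL (Fin 4) F)⁻¹ : GL (Fin 4) F) : (Matrix (Fin 4) (Fin 4) F))
                = (((y : GL (Fin 4) F)⁻¹ : GL (Fin 4) F) : (Matrix (Fin 4) (Fin 4) F)) * (((y : GL (Fin 4) F) : (Matrix (Fin 4) (Fin 4) F)) * X') *
                  (((y : GL (Fin 4) F)⁻¹ : GL (Fin 4) F) : (Matrix (Fin 4) (Fin 4) F)) := by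
                  rw [← mul_assoc _ _ X', Units.inv_mul, one_mul]
              _ = _ := by rw [← e1, mul_assoc, mul_assoc X', Units.mul_inv, mul_one])
      have hgU : g ∈ Cfsg.GU 4 F p := by
        have h := ((((simil_scal hF h4).mul (simil_onePlus hF h2 (hRU haR) ha)).mul
          (simil_onePlus hF h2 (hRU hbR) hb)).mul (simil_onePlus hF h2 (hRU hcR) hc)).mul
          (simil_onePlus hF h2 (hRU hdR) hd')
        rw [← Units.val_mul, ← Units.val_mul, ← Units.val_mul, ← Units.val_mul, ← hg] at h
        exact h.mem (by rw [map_inv₀, map_ofNat, show (4 : F) = 2 * 2 by norm_num]; field_simp)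
      obtain ⟨k, hk⟩ := hg5
      obtain ⟨d1, hd1, hy5, hyS⟩ := exists_normalised hF hcop hgU hk
      obtain ⟨d2, hd2, hx5, hxS'⟩ := exists_normalised hF hcop hxU hz
      have hy1 : scal hd1 * g ≠ 1 := fun e' => hga (by
        rw [eq_inv_of_mul_eq_one_right e']
        exact (Commute.inv_left (show Commute (scal hd1) a from Units.ext (by simp [scal_val]))).eq)
      obtain ⟨g', n, hn⟩ := exists_conj_pow_of (G := ↥(Cfsg.GU 4 F p ⊓ Cfsg.Geo.specialLinear (Fin 4) F))
        (fun z y hz5 hz1 hy5' hc' => by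
          obtain ⟨m, hm⟩ := exists_pow_eq hF ho (Subgroup.mem_inf.1 z.2).1 (Subgroup.mem_inf.1 y.2).1
            (by rw [← SubgroupClass.coe_pow, hz5]; rfl) (fun e => hz1 (Subtype.ext e))
            (by rw [← SubgroupClass.coe_pow, hy5']; rfl) (congrArg Subtype.val hc'.eq)
          exact ⟨m, Subtype.ext (by rw [SubgroupClass.coe_pow]; exact hm)⟩)
        (x := ⟨_, hxS'⟩) (y := ⟨_, hyS⟩) (Subtype.ext hx5) (Subtype.ext hy5) (fun e => hy1 (congrArg Subtype.val e))
      refine ⟨g', g'.2, S6000.scalar_absorb hd2 ?_⟩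
      have hn' := congrArg Subtype.val hn
      simp only [Subgroup.coe_mul, Subgroup.coe_inv, SubgroupClass.coe_pow] at hn'
      rw [hn']
      exact pow_mem (mul_mem (scal_mem_normalizer hd1 R) hgN) n


end Cfsg.Agent.S6001
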