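import Cfsg.Statements.S6002
import Cfsg.Agent.Lib.SympFour.Basic
import Cfsg.Agent.Lib.SympFour.Minus
import Cfsg.Agent.Lib.SympFour.Normalizer
import Cfsg.Agent.Lib.SympFour.FiveCycle
import Cfsg.Agent.Lib.SympFour.OrderFive
import Cfsg.Agent.Lib.MaxSub.SympInvolConj
import Cfsg.Agent.Lib.MaxSub.SympPrimeElem
import Cfsg.Agent.S5980
import Cfsg.Agent.Lib.Classical.LinearCard
import Mathlib

set_option autoImplicit false
open scoped MatrixGroups
open Cfsg

namespace Cfsg.Agent.S6002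


open Matrix Module Cfsg.Agent.Lib.SympFour Cfsg.Agent.Lib.MaxSub
open scoped MatrixGroups

section

variable {F : Type*} [Field F]

local notation "V" => (Fin 2 ⊕ Fin 2 → F)
local notation "M" => Matrix (Fin 2 ⊕ Fin 2) (Fin 2 ⊕ Fin 2) F
local notation "J2" => Matrix.J (Fin 2) F

theorem mem_sp_iff {x : GL (Fin 2 ⊕ Fin 2) F} : x ∈ Cfsg.spGL 2 F ↔ (x : M)ᵀ * J2 * x = J2 :=
  SympPrimeElem.mem_spGL_iff_mat.trans SymplecticGroup.mem_iff'

theorem neg_one_mem : (-1 : GL (Fin 2 ⊕ Fin 2) F) ∈ Cfsg.spGL 2 F := by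
  rw [mem_sp_iff]; simp

theorem J_ne_zero : (J2) ≠ 0 := fun h => by
  have := congrFun (congrFun h (Sum.inl 0)) (Sum.inr 0)
  simp [Matrix.J] at this

theorem scalar_sq {x : GL (Fin 2 ⊕ Fin 2) F} (hx : x ∈ Cfsg.spGL 2 F) {z : F} (hz : (x : M) = z • 1) :
    z = 1 ∨ z = -1 := by
  rw [mem_sp_iff, hz, Matrix.transpose_smul, Matrix.transpose_one, smul_mul_assoc, one_mul, mul_smul_comm,
    mul_one, smul_smul] at hx
  have h : (z * z - 1) • J2 = 0 := by rw [sub_smul, one_smul, hx, sub_self]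
  exact mul_self_eq_one_iff.mp (sub_eq_zero.mp ((smul_eq_zero.mp h).resolve_right J_ne_zero))

theorem trace_inv {x : GL (Fin 2 ⊕ Fin 2) F} (hx : x ∈ Cfsg.spGL 2 F) :
    Matrix.trace ((x⁻¹ : GL (Fin 2 ⊕ Fin 2) F) : M) = Matrix.trace (x : M) := by
  rw [mem_sp_iff] at hx
  have h1 : (x : M)ᵀ * J2 = J2 * ((x⁻¹ : GL (Fin 2 ⊕ Fin 2) F) : M) := by
    calc (x : M)ᵀ * J2 = (x : M)ᵀ * J2 * ((x : M) * ((x⁻¹ : GL (Fin 2 ⊕ Fin 2) F) : M)) := by
          rw [Units.mul_inv, mul_one]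
      _ = J2 * ((x⁻¹ : GL (Fin 2 ⊕ Fin 2) F) : M) := by rw [← mul_assoc, hx]
  have h2 : ((x⁻¹ : GL (Fin 2 ⊕ Fin 2) F) : M) = -(J2 * ((x : M)ᵀ * J2)) := by
    rw [h1, ← mul_assoc, Matrix.J_squared, neg_mul, one_mul, neg_neg]
  rw [h2, Matrix.trace_neg, Matrix.trace_mul_comm, mul_assoc, Matrix.J_squared, mul_neg, mul_one,
    Matrix.trace_neg, neg_neg, Matrix.trace_transpose]

/-- The extraspecial group of minus type. -/
theorem minus_of {R : Subgroup (GL (Fin 2 ⊕ Fin 2) F)} (hP : Pauli R) (hR5 : Nat.card R = 2 ^ 5)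
    (hRZ : Nat.card (Subgroup.center R) = 2) (hRm : Cfsg.Geo.IsOfMinusType 2 R) (h2 : (2 : F) ≠ 0) :
    Minus R ⟨-1, hP.negmem⟩ := by
  classical
  haveI := hP.fin
  set z : R := ⟨-1, hP.negmem⟩
  have hzc : ∀ g : R, z * g = g * z := fun g => Subtype.ext (Units.ext (by simp [z]))
  have hne : z ≠ 1 := fun e => by
    have h := congrArg (fun w : R => ((w : GL (Fin 2 ⊕ Fin 2) F) : M) (Sum.inl 0) (Sum.inl 0)) e
    simp [z] at h
    exact h2 (by linear_combination -h)
  have hzz : z * z = 1 := Subtype.ext (by simp [z])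
  have hcen : ∀ g : R, (∀ h, g * h = h * g) → g = 1 ∨ g = z := by
    intro g hg
    by_contra hno
    push Not at hno
    have hgZ : g ∈ Subgroup.center R := Subgroup.mem_center_iff.mpr fun h => (hg h).symm
    have hzZ : z ∈ Subgroup.center R := Subgroup.mem_center_iff.mpr fun h => (hzc h).symm
    have h3 : ({1, z, g} : Finset R).card ≤ Nat.card (Subgroup.center R) := by
      rw [← Nat.card_eq_finsetCard]
      refine Nat.card_le_card_of_injective (fun a => ⟨a.1, ?_⟩) fun a b e => Subtype.ext (congrArg Subtype.val e :)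
      rcases Finset.mem_insert.mp a.2 with e | e
      · rw [e]; exact one_mem _
      · rcases Finset.mem_insert.mp e with e | e
        · rw [e]; exact hzZ
        · rw [Finset.mem_singleton.mp e]; exact hgZ
    rw [hRZ, Finset.card_insert_of_notMem (by simp [Ne.symm hne, Ne.symm hno.1]),
      Finset.card_pair (Ne.symm hno.2)] at h3
    omega
  refine ⟨by rw [hR5]; norm_num, hzc, hzz, hne, fun g => ?_, fun g h => ?_, hcen, ?_⟩
  · rcases hP.sq g g.2 with e | e
    · exact Or.inl (Subtype.ext (Units.ext (by simpa using e)))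
    · exact Or.inr (Subtype.ext (Units.ext (by simpa [z] using e)))
  · rcases hP.comm g g.2 h h.2 with e | e
    · exact Or.inl (Subtype.ext (Units.ext (by simpa using e)))
    · exact Or.inr (Subtype.ext (Units.ext (by simpa [z] using e)))
  · intro u v hu hv huv
    by_contra hno
    push Not at hno
    obtain ⟨⟨u1, uz⟩, ⟨v1, vz⟩, vu, vzu⟩ := hno
    let A : Subgroup R := Subgroup.closure {z, u, v}
    have hcommA : IsMulCommutative A := Subgroup.isMulCommutative_closure fun a ha b hb => by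
      rcases ha with rfl | rfl | rfl <;> rcases hb with rfl | rfl | rfl <;>
        first | rfl | exact hzc _ | exact (hzc _).symm | exact huv | exact huv.symm
    have hsqA : ∀ x ∈ A, x * x = 1 := by
      intro x hx
      induction hx using Subgroup.closure_induction with
      | mem y hy => rcases hy with rfl | rfl | rfl; exacts [hzz, hu, hv]
      | one => simp
      | mul y w hy hw e1 e2 =>
        have h := congrArg Subtype.val (hcommA.is_comm.comm (⟨y, hy⟩ : A) ⟨w, hw⟩)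
        simp only [Subgroup.coe_mul] at h
        rw [Minus.mul_sq_of_comm h, e1, e2, one_mul]
      | inv y hy e1 => rw [← _root_.mul_inv_rev, e1, inv_one]
    have hsmall := hRm A hcommA hsqA
    have hpow : Nat.card A ∣ 2 ^ 5 := hR5 ▸ Subgroup.card_subgroup_dvd_card A
    have hfive : ({1, z, u, z * u, v} : Finset R).card ≤ Nat.card A := by
      rw [← Nat.card_eq_finsetCard]
      refine Nat.card_le_card_of_injective (fun a => ⟨a.1, ?_⟩) fun a b e => Subtype.ext (congrArg Subtype.val e :)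
      have mz : z ∈ A := Subgroup.subset_closure (by simp)
      have mu : u ∈ A := Subgroup.subset_closure (by simp)
      have mv : v ∈ A := Subgroup.subset_closure (by simp)
      have := a.2
      simp only [Finset.mem_insert, Finset.mem_singleton] at this
      rcases this with e | e | e | e | e <;> rw [e]
      exacts [one_mem _, mz, mu, mul_mem mz mu, mv]
    have n1 : z * u ≠ 1 := fun e => uz (by
      rw [eq_inv_of_mul_eq_one_right e]; exact inv_eq_of_mul_eq_one_right hzz)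
    have n2 : z * u ≠ z := fun e => u1 (mul_eq_left.mp e)
    have n3 : u ≠ z * u := fun h => hne (mul_eq_right.mp h.symm)
    rw [show ({1, z, u, z * u, v} : Finset R).card = 5 by
      simp [Ne.symm hne, Ne.symm u1, Ne.symm uz, Ne.symm n1, Ne.symm n2, n3, Ne.symm v1, Ne.symm vz, Ne.symm vu,
        Ne.symm vzu]] at hfive
    obtain ⟨k, hk, hk'⟩ := (Nat.dvd_prime_pow Nat.prime_two).mp hpow
    rw [hk'] at hfive hsmall
    interval_cases k <;> omega

/-- The embedding of a plane. -/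
def embMat (g : Matrix (Fin 2) (Fin 2) F) : M :=
  Matrix.fromBlocks !![g 0 0, 0; 0, 1] !![g 0 1, 0; 0, 0] !![g 1 0, 0; 0, 0] !![g 1 1, 0; 0, 1]

theorem embMat_mul (g h : Matrix (Fin 2) (Fin 2) F) : embMat g * embMat h = embMat (g * h) := by
  rw [embMat, embMat, embMat, Matrix.fromBlocks_multiply]
  congr 1 <;> ext i j <;> fin_cases i <;> fin_cases j <;> simp [Matrix.mul_apply, Fin.sum_univ_two]

theorem embMat_one : embMat (1 : Matrix (Fin 2) (Fin 2) F) = 1 := by
  rw [embMat, ← Matrix.fromBlocks_one]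
  congr 1 <;> ext i j <;> fin_cases i <;> fin_cases j <;> simp

theorem embMat_symp (g : Matrix.SpecialLinearGroup (Fin 2) F) :
    (embMat (g : Matrix (Fin 2) (Fin 2) F))ᵀ * J2 * embMat (g : Matrix (Fin 2) (Fin 2) F) = J2 := by
  have hd := g.2
  rw [Matrix.det_fin_two] at hd
  rw [embMat, Matrix.J, Matrix.fromBlocks_transpose, Matrix.fromBlocks_multiply, Matrix.fromBlocks_multiply]
  congr 1 <;> ext i j <;> fin_cases i <;> fin_cases j <;>
    simp [Matrix.mul_apply, Fin.sum_univ_two] <;> (try ring_nf) <;> (try linear_combination hd) <;>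
    (try linear_combination -hd)

variable [Fintype F] {p : ℕ} [Fact p.Prime]

/-- A witness in a plane. -/
theorem exists_plane (hF : Fintype.card F = p) {r : ℕ} [hr : Fact r.Prime] (hr35 : r = 3 ∨ r = 5)
    (hdvd : r ∣ p * (p ^ 2 - 1)) :
    ∃ x ∈ Cfsg.spGL 2 F, (x : M) ^ r = 1 ∧ (∀ z : F, (x : M) ≠ z • 1) ∧
      ∃ t : F, Matrix.trace (x : M) = t + 2 ∧ (r = 3 → t = -1) ∧ (r = 5 → t * t + t = 1) := by
  classical
  obtain ⟨g, hg⟩ := exists_prime_orderOf_dvd_card' (G := Matrix.SpecialLinearGroup (Fin 2) F) r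
    (by rw [Cfsg.Agent.Lib.Classical.card_SL2, hF]; exact hdvd)
  set A : Matrix (Fin 2) (Fin 2) F := (g : Matrix (Fin 2) (Fin 2) F) with hA
  have hAr : A ^ r = 1 := by
    rw [hA, ← Matrix.SpecialLinearGroup.coe_pow, ← hg, pow_orderOf_eq_one]; rfl
  have hA1 : A ≠ 1 := fun e => by
    have : g = 1 := Subtype.ext e
    rw [this, orderOf_one] at hg
    exact hr.out.one_lt.ne hg
  obtain ⟨x, hx, hxX⟩ := SympPrimeElem.exists_gl_of_mem (SymplecticGroup.mem_iff'.mpr (embMat_symp g))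
  rw [← hA] at hxX
  have hxr : (x : M) ^ r = 1 := by
    have : ∀ n : ℕ, embMat A ^ n = embMat (A ^ n) := fun n => by
      induction n with
      | zero => simp [embMat_one]
      | succ n ih => rw [pow_succ, ih, embMat_mul, pow_succ]
    rw [hxX, this, hAr, embMat_one]
  have hns : ∀ z : F, (x : M) ≠ z • 1 := by
    intro z hz
    rw [hxX] at hz
    have e1 := congrFun (congrFun hz (Sum.inl 1)) (Sum.inl 1)
    simp [embMat] at e1
    subst e1
    rw [one_smul] at hz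
    apply hA1
    ext i j
    fin_cases i <;> fin_cases j
    · simpa [embMat] using congrFun (congrFun hz (Sum.inl 0)) (Sum.inl 0)
    · simpa [embMat] using congrFun (congrFun hz (Sum.inl 0)) (Sum.inr 0)
    · simpa [embMat] using congrFun (congrFun hz (Sum.inr 0)) (Sum.inl 0)
    · simpa [embMat] using congrFun (congrFun hz (Sum.inr 0)) (Sum.inr 0)
  refine ⟨x, hx, hxr, hns, A.trace, ?_, ?_⟩
  · rw [hxX, Matrix.trace_fin_two]
    simp [embMat, Matrix.trace, Fintype.sum_sum_type, Fin.sum_univ_two]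
    ring
  have hd : A.det = 1 := g.2
  have hch : A * A = A.trace • A - (1 : Matrix (Fin 2) (Fin 2) F) := by
    rw [Matrix.det_fin_two] at hd
    ext i j
    fin_cases i <;> fin_cases j <;> simp [Matrix.mul_apply, Fin.sum_univ_two, Matrix.trace_fin_two]
    · linear_combination -hd
    · ring
    · ring
    · linear_combination -hd
  set t := A.trace with ht
  have hscal : ∀ a b : F, a • A = b • (1 : Matrix (Fin 2) (Fin 2) F) → a ≠ 0 → False := by
    intro a b h ha
    have hAe : A = (a⁻¹ * b) • 1 := by rw [mul_smul, ← h, smul_smul, inv_mul_cancel₀ ha, one_smul]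
    set c := a⁻¹ * b
    have hc2 : c ^ 2 = 1 := by
      rw [hAe, Matrix.det_smul, Matrix.det_one, mul_one, Fintype.card_fin] at hd
      exact hd
    have hcr : c ^ r = 1 := by
      have h' := hAr
      rw [hAe, _root_.smul_pow, one_pow] at h'
      simpa using congrFun (congrFun h' 0) 0
    have hc1 : c = 1 := by
      rcases hr35 with rfl | rfl
      · linear_combination hcr - c * hc2
      · linear_combination hcr - (c ^ 3 + c) * hc2
    exact hA1 (by rw [hAe, hc1, one_smul])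
  constructor
  · intro hr3
    subst hr3
    have h3 : (t * t - 1) • A = (1 + t) • (1 : Matrix (Fin 2) (Fin 2) F) := by
      have h := hAr
      rw [pow_succ, pow_two, hch, sub_mul, smul_mul_assoc, hch, one_mul] at h
      linear_combination (norm := module) h
    by_cases hz : t * t - 1 = 0
    · rw [hz, zero_smul] at h3
      linear_combination (smul_eq_zero.mp h3.symm).resolve_right one_ne_zero
    · exact (hscal _ _ h3 hz).elim
  · intro hr5
    subst hr5
    have h5 : (t ^ 4 - 3 * t ^ 2 + 1) • A = (t ^ 3 - 2 * t + 1) • (1 : Matrix (Fin 2) (Fin 2) F) := by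
      have h := hAr
      rw [show A ^ 5 = A * A * (A * A) * A by simp only [pow_succ, pow_zero, one_mul, mul_assoc], hch] at h
      simp only [sub_mul, mul_sub, smul_mul_assoc, mul_smul_comm, one_mul, mul_one, hch, smul_sub, smul_smul] at h
      linear_combination (norm := module) h
    by_cases hz : t ^ 4 - 3 * t ^ 2 + 1 = 0
    · rw [hz, zero_smul] at h5
      have h6 := (smul_eq_zero.mp h5.symm).resolve_right one_ne_zero
      have h7 : (t - 1) * (t * t + t - 1) = 0 := by linear_combination h6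
      rcases mul_eq_zero.mp h7 with h8 | h8
      · exfalso
        rw [sub_eq_zero.mp h8] at hz
        exact one_ne_zero (α := F) (by linear_combination -hz)
      · linear_combination h8
    · exact (hscal _ _ h5 hz).elim


/-- Similitudes of a given multiplier. -/
def IsSimil (a : F) (A : M) : Prop := Aᵀ * J2 * A = a • J2

theorem IsSimil.mul {a b : F} {A B : M} (hA : IsSimil a A) (hB : IsSimil b B) : IsSimil (a * b) (A * B) := by
  unfold IsSimil at *
  calc (A * B)ᵀ * J2 * (A * B) = Bᵀ * (Aᵀ * J2 * A) * B := by rw [Matrix.transpose_mul]; simp only [mul_assoc]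
    _ = (a * b) • J2 := by rw [hA, mul_smul_comm, smul_mul_assoc, hB, smul_smul]

theorem isSimil_onePlus {e : M} (hsp : eᵀ * J2 * e = J2) (he : e * e = -1) : IsSimil (2 : F) (1 + e) := by
  have h1 : eᵀ * J2 = -(J2 * e) := by
    calc eᵀ * J2 = -(eᵀ * J2 * e * e) := by rw [mul_assoc _ e e, he, mul_neg, mul_one, neg_neg]
      _ = -(J2 * e) := by rw [hsp]
  unfold IsSimil
  rw [Matrix.transpose_add, Matrix.transpose_one, add_mul, one_mul, add_mul, mul_add, mul_add, mul_one, mul_one,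
    hsp, h1, two_smul]
  abel

/-- An element of order five of the normaliser. -/
theorem exists_five_mem {R : Subgroup (GL (Fin 2 ⊕ Fin 2) F)} (hP : Pauli R) (hRf : R ≤ Cfsg.spGL 2 F)
    (h2 : (2 : F) ≠ 0) (hM : Minus R ⟨-1, hP.negmem⟩) :
    ∃ y ∈ Cfsg.spGL 2 F, y ∈ Cfsg.Geo.subgroupNormalizer R ∧ y ^ 5 = 1 ∧ y ≠ 1 := by
  haveI := hP.fin
  obtain ⟨i, j, u, v, huu, hvv, hii, hjj, huv, hij, hiu, hiv, hju, hjv, hgen⟩ := hM.exists_frame
  have cv : ∀ {a b : R}, a = b → ((a : GL (Fin 2 ⊕ Fin 2) F) : M) = ((b : GL (Fin 2 ⊕ Fin 2) F) : M) :=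
    fun h => by rw [h]
  obtain ⟨g, a, b, c, d, h4, ha, hb, hc, hd, haR, hbR, hcR, hdR, hg, hgN, hga, hg5⟩ :=
    exists_five hP h2 i.2 j.2 u.2 v.2 (by simpa using cv huu) (by simpa using cv hvv) (by simpa using cv hii)
      (by simpa using cv hjj) (by simpa using cv huv) (by simpa using cv hij) (by simpa using cv hiu)
      (by simpa using cv hiv) (by simpa using cv hju) (by simpa using cv hjv) (by
        intro X X1 X2 X3 X4
        refine hP.abs X fun s hs => ?_
        refine Subgroup.closure_induction (p := fun (s : R) _ => X * ((s : GL (Fin 2 ⊕ Fin 2) F) : M) = ((s : GL (Fin 2 ⊕ Fin 2) F) : M) * X)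
          ?_ (by simp) ?_ ?_ (hgen ⟨s, hs⟩)
        · intro y hy
          simp only [Set.mem_insert_iff, Set.mem_singleton_iff] at hy
          rcases hy with rfl | rfl | rfl | rfl | rfl
          exacts [by simp, X1, X2, X3, X4]
        · intro y w _ _ e1 e2
          simp only [Subgroup.coe_mul, Units.val_mul]
          rw [← mul_assoc, e1, mul_assoc, e2, mul_assoc]
        · intro y _ e1
          simp only [Subgroup.coe_inv]
          calc X * (((y : GL (Fin 2 ⊕ Fin 2) F)⁻¹ : GL (Fin 2 ⊕ Fin 2) F) : M)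
              = (((y : GL (Fin 2 ⊕ Fin 2) F)⁻¹ : GL (Fin 2 ⊕ Fin 2) F) : M) * (((y : GL (Fin 2 ⊕ Fin 2) F) : M) * X) *
                (((y : GL (Fin 2 ⊕ Fin 2) F)⁻¹ : GL (Fin 2 ⊕ Fin 2) F) : M) := by
                rw [← mul_assoc _ _ X, Units.inv_mul, one_mul]
            _ = _ := by rw [← e1, mul_assoc, mul_assoc X, Units.mul_inv, mul_one])
  have hgS : g ∈ Cfsg.spGL 2 F := by
    have hs : IsSimil (((4 : F)⁻¹ * (4 : F)⁻¹) * 2 * 2 * 2 * 2) (g : M) := by
      rw [hg]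
      simp only [Units.val_mul, onePlus_val, scal_val]
      refine ((((?_ : IsSimil ((4 : F)⁻¹ * (4 : F)⁻¹) ((4 : F)⁻¹ • (1 : M))).mul
        (isSimil_onePlus (mem_sp_iff.mp (hRf haR)) ha)).mul (isSimil_onePlus (mem_sp_iff.mp (hRf hbR)) hb)).mul
        (isSimil_onePlus (mem_sp_iff.mp (hRf hcR)) hc)).mul (isSimil_onePlus (mem_sp_iff.mp (hRf hdR)) hd)
      unfold IsSimil
      rw [Matrix.transpose_smul, Matrix.transpose_one, smul_mul_assoc, one_mul, mul_smul_comm, mul_one, smul_smul]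
    have h40 : (4 : F) ≠ 0 := fun e => h4 (by rw [e, _root_.inv_zero])
    rw [show ((4 : F)⁻¹ * (4 : F)⁻¹) * 2 * 2 * 2 * 2 = 1 by field_simp; ring] at hs
    rw [mem_sp_iff, hs, one_smul]
  obtain ⟨k, hk⟩ := hg5
  have hnegc : ∀ y : GL (Fin 2 ⊕ Fin 2) F, (-y) * a = a * (-y) → y * a = a * y := fun y h => by
    simpa using h
  have hN1 : (-1 : GL (Fin 2 ⊕ Fin 2) F) ∈ Cfsg.Geo.subgroupNormalizer R := Subgroup.le_normalizer hP.negmem
  rcases scalar_sq (pow_mem hgS 5) hk with rfl | rfl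
  · refine ⟨g, hgS, hgN, Units.ext (by rw [hk]; simp), fun e => hga (by rw [e, one_mul, mul_one])⟩
  · refine ⟨-g, by simpa using mul_mem neg_one_mem hgS, by simpa using mul_mem hN1 hgN,
      Units.ext ?_, fun e => hga (hnegc g (by rw [e, one_mul, mul_one]))⟩
    rw [Units.val_pow_eq_pow_val, Units.val_neg, Odd.neg_pow (by decide), ← Units.val_pow_eq_pow_val, hk]
    simp

/-- Counting members fixed by an element of odd prime order. -/
theorem card_fixed {R : Subgroup (GL (Fin 2 ⊕ Fin 2) F)} (hP : Pauli R) (h2 : (2 : F) ≠ 0)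
    (hM : Minus R ⟨-1, hP.negmem⟩) {g : GL (Fin 2 ⊕ Fin 2) F} (hg : g ∈ Cfsg.Geo.subgroupNormalizer R)
    (hgns : ∀ z : F, (g : M) ≠ z • 1) {r : ℕ} [hr : Fact r.Prime] (hr2 : r ≠ 2) (hgr : g ^ r = 1) :
    (r = 3 ∧ Nat.card {s : R // g * (s : GL (Fin 2 ⊕ Fin 2) F) = (s : GL (Fin 2 ⊕ Fin 2) F) * g} = 8) ∨
      (r = 5 ∧ Nat.card {s : R // g * (s : GL (Fin 2 ⊕ Fin 2) F) = (s : GL (Fin 2 ⊕ Fin 2) F) * g} = 2) := by
  classical
  haveI := hP.fin
  have hodd : Odd r := hr.out.odd_of_ne_two hr2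
  let C : Subgroup R := (Subgroup.centralizer ({g} : Set (GL (Fin 2 ⊕ Fin 2) F))).comap R.subtype
  have hC : ∀ s : R, s ∈ C ↔ g * (s : GL (Fin 2 ⊕ Fin 2) F) = (s : GL (Fin 2 ⊕ Fin 2) F) * g := fun s =>
    Subgroup.mem_centralizer_singleton_iff.trans eq_comm
  have hcard : Nat.card {s : R // g * (s : GL (Fin 2 ⊕ Fin 2) F) = (s : GL (Fin 2 ⊕ Fin 2) F) * g} = Nat.card C :=
    (Nat.card_congr (Equiv.subtypeEquivRight hC)).symm
  rw [hcard]
  have h1 : Nat.card R ≡ Nat.card C [MOD r] := by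
    have h := hP.card_fixed_modEq hg hgr (fun _ => True) (fun _ => Iff.rfl)
    simp only [true_and] at h
    rw [hcard, Nat.card_congr (Equiv.subtypeUnivEquiv (p := fun _ : R => True) fun _ => trivial)] at h
    exact h
  have h12 := hM.card_sq_one
  set K := Nat.card {s : R // s * s = 1 ∧ g * (s : GL (Fin 2 ⊕ Fin 2) F) = (s : GL (Fin 2 ⊕ Fin 2) F) * g} with hK
  have h2' : 12 ≡ K [MOD r] := by
    have h := hP.card_fixed_modEq hg hgr (fun x => x * x = 1) (fun x => by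
      rw [show g * x * g⁻¹ * (g * x * g⁻¹) = g * (x * x) * g⁻¹ by group]
      exact ⟨fun e => conj_eq_one_iff.mp e, fun e => conj_eq_one_iff.mpr e⟩)
    rw [← h12, hK]
    have e : ∀ s : R, (s : GL (Fin 2 ⊕ Fin 2) F) * s = 1 ↔ s * s = 1 := fun s => by
      rw [← Subgroup.coe_mul, OneMemClass.coe_eq_one]
    simpa only [e] using h
  have hKle : K ≤ Nat.card C := by
    rw [← hcard]
    exact Nat.card_le_card_of_injective (fun s => ⟨s.1, s.2.2⟩) fun a b e => Subtype.ext (congrArg Subtype.val e :)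
  have hK2 : 2 ≤ K := by
    have hne : (1 : R) ≠ ⟨-1, hP.negmem⟩ := Ne.symm hM.ne
    rw [show 2 = ({1, ⟨-1, hP.negmem⟩} : Finset R).card from (Finset.card_pair hne).symm, ← Nat.card_eq_finsetCard]
    refine Nat.card_le_card_of_injective (fun a => ⟨a.1, ?_⟩) fun a b e => Subtype.ext (congrArg Subtype.val e :)
    rcases Finset.mem_insert.mp a.2 with e | e
    · rw [e]; simp
    · rw [Finset.mem_singleton.mp e]; simp
  have hK12 : K ≤ 12 := by
    rw [← h12]
    exact Nat.card_le_card_of_injective (fun s => ⟨s.1, s.2.1⟩) fun a b e => Subtype.ext (congrArg Subtype.val e :)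
  have hdvd : Nat.card C ∣ 2 ^ 5 := by
    rw [show 2 ^ 5 = Nat.card R by rw [hM.card]; rfl]
    exact Subgroup.card_subgroup_dvd_card C
  have h32 : Nat.card C ≠ 32 := by
    intro e
    have htop : C = ⊤ := Subgroup.eq_top_of_card_eq C (e.trans hM.card.symm)
    obtain ⟨z, hz⟩ := hP.abs (g : M) fun s hs => by
      have := congrArg (fun w : GL (Fin 2 ⊕ Fin 2) F => (w : M)) ((hC ⟨s, hs⟩).mp (htop ▸ Subgroup.mem_top _))
      simpa using this
    exact hgns z hz
  rw [hM.card] at h1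
  obtain ⟨k, hk, hk'⟩ := (Nat.dvd_prime_pow Nat.prime_two).mp hdvd
  have h3 := hr.out.two_le
  rw [hk'] at h1 hKle h32 ⊢
  have hd1 : r ∣ 32 - 2 ^ k := (Nat.modEq_iff_dvd' (Nat.pow_le_pow_right (by norm_num) hk)).mp h1.symm
  have hd2 : r ∣ 12 - K := (Nat.modEq_iff_dvd' hK12).mp h2'.symm
  interval_cases k
  · omega
  all_goals first
    | omega
    | (have hr30 : r ≤ 32 := (Nat.le_of_dvd (by norm_num) hd1).trans (by norm_num)
       interval_cases r <;> first | omega | (norm_num at hr hd1 hodd ⊢ <;> omega) | exact absurd hr.out (by norm_num))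

end

/-- Elements of prime order of PSp_4(p), p odd, and the normalizer of an extraspecial 2-group of order 2⁵ of minus type. Here `T = PSp_4(F)` for the field `F` with `p` elements, `p` an odd prime, realised through the matrices preserving the standard alternating form `f`; `R` is an absolutely irreducible subgroup of `T` (it preserves `f`) that is a 2-group of symplectic type of exponent 4, order 2⁵ and centre of order 2, of minus type (no elementary abelian subgroup of order 2³), and `H` is the subgroup of `T` normalizing `R` — a subgroup of type 2^{1+4}.O₄⁻(2) (maximality is not assumed). Ω is the set of cosets of `H` in `T`, so an element of `T` of prime order `r` (`x ∈ T` with `x^r` scalar, `x` not scalar) fixes a point of Ω exactly when some `T`-conjugate of `x` normalizes `R`. Let `r` be a prime dividing the index of `H`. Then every element of `T` of order `r` fixes a point of Ω if and only if `r = 2`, or `r = 5` and `p` has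 multiplicative order 4 modulo 5. -/
theorem result {F : Type*} [Field F] [Fintype F] {p : ℕ} [Fact p.Prime] [CharP F p] (hF : Fintype.card F = p) (hodd : Odd p)
    (R : Subgroup (GL (Fin 2 ⊕ Fin 2) F)) (hRs : Cfsg.Geo.IsSymplecticTypeGroup 2 R) (hRi : Cfsg.Geo.ActsAbsolutelyIrreducibly (Cfsg.Geo.matrixSet R))
    (hRf : R ≤ Cfsg.spGL 2 F) (hR5 : Nat.card R = 2 ^ 5) (hRZ : Nat.card (Subgroup.center R) = 2) (hRm : Cfsg.Geo.IsOfMinusType 2 R)
    (r : ℕ) [Fact r.Prime]
    (hΩ : r ∣ (Cfsg.Geo.subgroupNormalizer R).relIndex (Cfsg.spGL 2 F)) :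
    (∀ x ∈ Cfsg.spGL 2 F, (∃ z : F, ((x ^ r : GL (Fin 2 ⊕ Fin 2) F) : Matrix (Fin 2 ⊕ Fin 2) (Fin 2 ⊕ Fin 2) F) = z • (1 : Matrix (Fin 2 ⊕ Fin 2) (Fin 2 ⊕ Fin 2) F)) →
      (∀ z : F, (x : Matrix (Fin 2 ⊕ Fin 2) (Fin 2 ⊕ Fin 2) F) ≠ z • (1 : Matrix (Fin 2 ⊕ Fin 2) (Fin 2 ⊕ Fin 2) F)) →
      ∃ g ∈ Cfsg.spGL 2 F, g⁻¹ * x * g ∈ Cfsg.Geo.subgroupNormalizer R) ↔ (r = 2 ∨ (r = 5 ∧ orderOf (p : ZMod 5) = 4)) := by
  classical
  have hp : p.Prime := Fact.out
  have hp2 : p ≠ 2 := fun e => absurd hodd (by subst e; decide)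
  have h2 : (2 : F) ≠ 0 := fun h => hp2 ((Nat.prime_dvd_prime_iff_eq hp Nat.prime_two).mp
    ((CharP.cast_eq_zero_iff F p 2).mp (by exact_mod_cast h)))
  have hP := pauli_of hRs hRi (by omega)
  haveI := hP.fin
  have hM := minus_of hP hR5 hRZ hRm h2
  have hr : r.Prime := Fact.out
  have hN1 : (-1 : GL (Fin 2 ⊕ Fin 2) F) ∈ Cfsg.Geo.subgroupNormalizer R := Subgroup.le_normalizer hP.negmem
  have hcard16 : (16 : F) ≠ 0 := by rw [show (16 : F) = 2 ^ 4 by norm_num]; exact pow_ne_zero _ h2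
  constructor
  · intro h
    by_contra hne
    push Not at hne
    obtain ⟨hr2, hr5⟩ := hne
    suffices hbad : ∃ x ∈ Cfsg.spGL 2 F, (x : (Matrix (Fin 2 ⊕ Fin 2) (Fin 2 ⊕ Fin 2) F)) ^ r = 1 ∧ (∀ z : F, (x : (Matrix (Fin 2 ⊕ Fin 2) (Fin 2 ⊕ Fin 2) F)) ≠ z • 1) ∧
        ∀ g ∈ Cfsg.spGL 2 F, ¬ g⁻¹ * x * g ∈ Cfsg.Geo.subgroupNormalizer R by
      obtain ⟨x, hxS, hx, hns, hb⟩ := hbad
      obtain ⟨g, hgS, hg⟩ := h x hxS ⟨1, by rw [Units.val_pow_eq_pow_val, hx, one_smul]⟩ hns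
      exact hb g hgS hg
    have conj : ∀ x ∈ Cfsg.spGL 2 F, (x : (Matrix (Fin 2 ⊕ Fin 2) (Fin 2 ⊕ Fin 2) F)) ^ r = 1 → (∀ z : F, (x : (Matrix (Fin 2 ⊕ Fin 2) (Fin 2 ⊕ Fin 2) F)) ≠ z • 1) → ∀ g ∈ Cfsg.spGL 2 F,
        g⁻¹ * x * g ∈ Cfsg.Geo.subgroupNormalizer R → ∃ y ∈ Cfsg.spGL 2 F, y ∈ Cfsg.Geo.subgroupNormalizer R ∧
          y ^ r = 1 ∧ (∀ z : F, (y : (Matrix (Fin 2 ⊕ Fin 2) (Fin 2 ⊕ Fin 2) F)) ≠ z • 1) ∧ Matrix.trace (y : (Matrix (Fin 2 ⊕ Fin 2) (Fin 2 ⊕ Fin 2) F)) = Matrix.trace (x : (Matrix (Fin 2 ⊕ Fin 2) (Fin 2 ⊕ Fin 2) F)) ∧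
          ((y : (Matrix (Fin 2 ⊕ Fin 2) (Fin 2 ⊕ Fin 2) F)) - 1).rank = ((x : (Matrix (Fin 2 ⊕ Fin 2) (Fin 2 ⊕ Fin 2) F)) - 1).rank := by
      intro x hxS hx hns g hgS hg
      refine ⟨g⁻¹ * x * g, mul_mem (mul_mem (inv_mem hgS) hxS) hgS, hg, ?_, ?_, ?_, ?_⟩
      · have hx' : x ^ r = 1 := Units.ext (by rw [Units.val_pow_eq_pow_val]; exact hx)
        have := conj_pow (i := r) (a := g⁻¹) (b := x)
        rw [inv_inv, hx', mul_one, inv_mul_cancel] at this
        exact this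
      · intro z hz
        apply hns z
        calc (x : (Matrix (Fin 2 ⊕ Fin 2) (Fin 2 ⊕ Fin 2) F)) = (g : (Matrix (Fin 2 ⊕ Fin 2) (Fin 2 ⊕ Fin 2) F)) * ((g⁻¹ * x * g : GL (Fin 2 ⊕ Fin 2) F) : (Matrix (Fin 2 ⊕ Fin 2) (Fin 2 ⊕ Fin 2) F)) * ((g⁻¹ : GL (Fin 2 ⊕ Fin 2) F) : (Matrix (Fin 2 ⊕ Fin 2) (Fin 2 ⊕ Fin 2) F)) := by
              rw [← Units.val_mul, ← Units.val_mul]; congr 1; group
          _ = z • 1 := by rw [hz, mul_smul_comm, mul_one, smul_mul_assoc, Units.mul_inv]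
      · rw [Units.val_mul, Units.val_mul, Matrix.trace_mul_comm, ← mul_assoc, Units.mul_inv, one_mul]
      · rw [Units.val_mul, Units.val_mul,
          show ((g⁻¹ : GL (Fin 2 ⊕ Fin 2) F) : (Matrix (Fin 2 ⊕ Fin 2) (Fin 2 ⊕ Fin 2) F)) * (x : (Matrix (Fin 2 ⊕ Fin 2) (Fin 2 ⊕ Fin 2) F)) * (g : (Matrix (Fin 2 ⊕ Fin 2) (Fin 2 ⊕ Fin 2) F)) - 1 =
            ((g⁻¹ : GL (Fin 2 ⊕ Fin 2) F) : (Matrix (Fin 2 ⊕ Fin 2) (Fin 2 ⊕ Fin 2) F)) * ((x : (Matrix (Fin 2 ⊕ Fin 2) (Fin 2 ⊕ Fin 2) F)) - 1) * (g : (Matrix (Fin 2 ⊕ Fin 2) (Fin 2 ⊕ Fin 2) F)) by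
            rw [mul_sub, sub_mul, mul_one, Units.inv_mul]]
        rw [Matrix.rank_mul_eq_left_of_isUnit_det _ _ ((Matrix.isUnit_iff_isUnit_det _).mp g.isUnit),
          Matrix.rank_mul_eq_right_of_isUnit_det _ _ ((Matrix.isUnit_iff_isUnit_det _).mp (g⁻¹).isUnit)]
    have formula : ∀ y ∈ Cfsg.spGL 2 F, y ∈ Cfsg.Geo.subgroupNormalizer R → y ^ r = 1 →
        (Nat.card {s : R // y * (s : GL (Fin 2 ⊕ Fin 2) F) = (s : GL (Fin 2 ⊕ Fin 2) F) * y} : F) =
          2 * (Matrix.trace (y : (Matrix (Fin 2 ⊕ Fin 2) (Fin 2 ⊕ Fin 2) F)) * Matrix.trace (y : (Matrix (Fin 2 ⊕ Fin 2) (Fin 2 ⊕ Fin 2) F))) := by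
      intro y hyS hyN hyr
      have h := hP.trace_formula h2 hyN (hr.odd_of_ne_two hr2) hyr
      rw [trace_inv hyS, hR5, Fintype.card_sum, Fintype.card_fin] at h
      refine mul_left_cancel₀ hcard16 ?_
      push_cast at h
      linear_combination h
    by_cases hr35 : r = 3 ∨ r = 5
    · by_cases hrp : r = p
      · subst hrp
        obtain ⟨x, hxS, hx, hns, hrk⟩ := S5980.exists_transvection (F := F) (d := 2) le_rfl r
        rw [one_smul] at hrk
        refine ⟨x, hxS, hx, hns, fun g hgS hg => ?_⟩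
        obtain ⟨y, hyS, hyN, hyr, hyns, -, hyrk⟩ := conj x hxS hx hns g hgS hg
        rw [hrk] at hyrk
        rcases card_fixed hP h2 hM hyN hyns hr2 hyr with ⟨rfl, hC⟩ | ⟨rfl, hC⟩
        · -- a member of square `-1` commutes with the transvection
          obtain ⟨e, he, hey⟩ : ∃ e ∈ R, (e : (Matrix (Fin 2 ⊕ Fin 2) (Fin 2 ⊕ Fin 2) F)) * e = -1 ∧ y * e = e * y := by
            by_contra hno
            push Not at hno
            let C : Subgroup R := (Subgroup.centralizer ({y} : Set (GL (Fin 2 ⊕ Fin 2) F))).comap R.subtype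
            have hCsq : ∀ s ∈ C, s * s = 1 := by
              intro s hs
              refine (hM.sq s).resolve_right fun e => hno s s.2 ?_ (Subgroup.mem_centralizer_singleton_iff.mp hs).symm
              simpa using congrArg (fun w : R => ((w : GL (Fin 2 ⊕ Fin 2) F) : (Matrix (Fin 2 ⊕ Fin 2) (Fin 2 ⊕ Fin 2) F))) e
            have hCcomm : IsMulCommutative C := ⟨⟨fun a b => Subtype.ext (by
              have h1 := hCsq _ (mul_mem a.2 b.2)
              have ha := inv_eq_of_mul_eq_one_right (hCsq _ a.2)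
              have hb := inv_eq_of_mul_eq_one_right (hCsq _ b.2)
              calc (a : R) * b = ((a : R) * b)⁻¹ := (inv_eq_of_mul_eq_one_right h1).symm
                _ = (b : R) * a := by rw [_root_.mul_inv_rev, ha, hb])⟩⟩
            have h8 := hRm C hCcomm hCsq
            rw [show Nat.card C = 8 from (Nat.card_congr (Equiv.subtypeEquivRight fun s =>
              Subgroup.mem_centralizer_singleton_iff.trans eq_comm)).trans hC] at h8
            omega
          obtain ⟨hee, hcomm⟩ := hey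
          set N : (Matrix (Fin 2 ⊕ Fin 2) (Fin 2 ⊕ Fin 2) F) := (y : (Matrix (Fin 2 ⊕ Fin 2) (Fin 2 ⊕ Fin 2) F)) - 1 with hN
          have hcomm' : (e : (Matrix (Fin 2 ⊕ Fin 2) (Fin 2 ⊕ Fin 2) F)) * N = N * e := by
            rw [hN, mul_sub, sub_mul, mul_one, one_mul, ← Units.val_mul, ← Units.val_mul, hcomm]
          obtain ⟨u, hu, hspan⟩ := finrank_eq_one_iff'.mp (show finrank F (LinearMap.range N.mulVecLin) = 1 from hyrk)
          obtain ⟨w, hw⟩ := u.2
          obtain ⟨l, hl⟩ := hspan ⟨(e : (Matrix (Fin 2 ⊕ Fin 2) (Fin 2 ⊕ Fin 2) F)) *ᵥ (u : (Fin 2 ⊕ Fin 2 → F)), (e : (Matrix (Fin 2 ⊕ Fin 2) (Fin 2 ⊕ Fin 2) F)) *ᵥ w, by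
            rw [← hw]; simp [Matrix.mulVec_mulVec, hcomm']⟩
          have hl' : (e : (Matrix (Fin 2 ⊕ Fin 2) (Fin 2 ⊕ Fin 2) F)) *ᵥ (u : (Fin 2 ⊕ Fin 2 → F)) = l • (u : (Fin 2 ⊕ Fin 2 → F)) := (congrArg Subtype.val hl).symm
          have h1 : (l * l + 1) • (u : (Fin 2 ⊕ Fin 2 → F)) = 0 := by
            have h3 : ((e : (Matrix (Fin 2 ⊕ Fin 2) (Fin 2 ⊕ Fin 2) F)) * (e : (Matrix (Fin 2 ⊕ Fin 2) (Fin 2 ⊕ Fin 2) F))) *ᵥ (u : (Fin 2 ⊕ Fin 2 → F)) = (l * l) • (u : (Fin 2 ⊕ Fin 2 → F)) := by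
              rw [← Matrix.mulVec_mulVec, hl', Matrix.mulVec_smul, hl', smul_smul]
            rw [hee, Matrix.neg_mulVec, Matrix.one_mulVec] at h3
            rw [add_smul, one_smul, ← h3, neg_add_cancel]
          have h3 := (smul_eq_zero.mp h1).resolve_right fun e => hu (Subtype.ext e)
          have hl3 : l ^ 3 = l := by simpa [hF] using FiniteField.pow_card l
          have hl0 : l = 0 := (mul_eq_zero.mp (show (2 : F) * l = 0 by linear_combination l * h3 - hl3)).resolve_left h2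
          rw [hl0, mul_zero, zero_add] at h3
          exact one_ne_zero h3
        · -- the commutators with the transvection are involutions, and separate cosets
          haveI := Fintype.ofFinite R
          let φ : R → R := fun s => ⟨y * (s : GL (Fin 2 ⊕ Fin 2) F) * y⁻¹ * (s : GL (Fin 2 ⊕ Fin 2) F)⁻¹,
            mul_mem (conj_mem hyN s.2) (inv_mem s.2)⟩
          have hsq : ∀ s, φ s * φ s = 1 := by
            intro s
            refine (hM.sq (φ s)).resolve_right fun e => ?_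
            have e' : ((φ s : GL (Fin 2 ⊕ Fin 2) F) : (Matrix (Fin 2 ⊕ Fin 2) (Fin 2 ⊕ Fin 2) F)) * ((φ s : GL (Fin 2 ⊕ Fin 2) F) : (Matrix (Fin 2 ⊕ Fin 2) (Fin 2 ⊕ Fin 2) F)) = -1 := by
              simpa using congrArg (fun w : R => ((w : GL (Fin 2 ⊕ Fin 2) F) : (Matrix (Fin 2 ⊕ Fin 2) (Fin 2 ⊕ Fin 2) F))) e
            let L : (Fin 2 ⊕ Fin 2 → F) →ₗ[F] (Fin 2 ⊕ Fin 2 → F) := ((y : (Matrix (Fin 2 ⊕ Fin 2) (Fin 2 ⊕ Fin 2) F)) - 1).mulVecLin
            let L' : (Fin 2 ⊕ Fin 2 → F) →ₗ[F] (Fin 2 ⊕ Fin 2 → F) := (((y : (Matrix (Fin 2 ⊕ Fin 2) (Fin 2 ⊕ Fin 2) F)) - 1) * (((s : GL (Fin 2 ⊕ Fin 2) F)⁻¹ : GL (Fin 2 ⊕ Fin 2) F) : (Matrix (Fin 2 ⊕ Fin 2) (Fin 2 ⊕ Fin 2) F))).mulVecLin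
            have r1 : finrank F (LinearMap.range L) = 1 := hyrk
            have r2 : finrank F (LinearMap.range L') = 1 := by
              change ((((y : (Matrix (Fin 2 ⊕ Fin 2) (Fin 2 ⊕ Fin 2) F)) - 1) * (((s : GL (Fin 2 ⊕ Fin 2) F)⁻¹ : GL (Fin 2 ⊕ Fin 2) F) : (Matrix (Fin 2 ⊕ Fin 2) (Fin 2 ⊕ Fin 2) F)))).rank = 1
              rw [Matrix.rank_mul_eq_left_of_isUnit_det _ _ ((Matrix.isUnit_iff_isUnit_det _).mp ((s : GL (Fin 2 ⊕ Fin 2) F)⁻¹).isUnit)]
              exact hyrk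
            have k1 := L.finrank_range_add_finrank_ker
            have k2 := L'.finrank_range_add_finrank_ker
            have k3 := Submodule.finrank_sup_add_finrank_inf_eq (LinearMap.ker L) (LinearMap.ker L')
            have k4 := Submodule.finrank_le (LinearMap.ker L ⊔ LinearMap.ker L')
            rw [Module.finrank_fintype_fun_eq_card, Fintype.card_sum, Fintype.card_fin] at k1 k2 k4
            obtain ⟨w, hw, hw0⟩ := Submodule.exists_mem_ne_zero_of_ne_bot
              (show LinearMap.ker L ⊓ LinearMap.ker L' ≠ ⊥ from fun e => by rw [e, finrank_bot] at k3; omega)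
            obtain ⟨w1, w2⟩ := hw
            simp only [L, L', SetLike.mem_coe, LinearMap.mem_ker, Matrix.mulVecLin_apply, Matrix.sub_mulVec,
              ← Matrix.mulVec_mulVec, Matrix.one_mulVec, sub_eq_zero] at w1 w2
            have hinv : ∀ q : (Fin 2 ⊕ Fin 2 → F), (y : (Matrix (Fin 2 ⊕ Fin 2) (Fin 2 ⊕ Fin 2) F)) *ᵥ q = q → ((y⁻¹ : GL (Fin 2 ⊕ Fin 2) F) : (Matrix (Fin 2 ⊕ Fin 2) (Fin 2 ⊕ Fin 2) F)) *ᵥ q = q := fun q hq => by
              conv_lhs => rw [← hq]
              rw [Matrix.mulVec_mulVec, Units.inv_mul, Matrix.one_mulVec]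
            have hfix : ((φ s : GL (Fin 2 ⊕ Fin 2) F) : (Matrix (Fin 2 ⊕ Fin 2) (Fin 2 ⊕ Fin 2) F)) *ᵥ w = w := by
              simp only [φ, Units.val_mul, ← Matrix.mulVec_mulVec]
              rw [hinv _ w2, Matrix.mulVec_mulVec _ _ (((s : GL (Fin 2 ⊕ Fin 2) F)⁻¹ : GL (Fin 2 ⊕ Fin 2) F) : (Matrix (Fin 2 ⊕ Fin 2) (Fin 2 ⊕ Fin 2) F)),
                Units.mul_inv, Matrix.one_mulVec, w1]
            have h5 := congrArg (fun X : (Matrix (Fin 2 ⊕ Fin 2) (Fin 2 ⊕ Fin 2) F) => X *ᵥ w) e'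
            simp only [← Matrix.mulVec_mulVec, hfix, Matrix.neg_mulVec, Matrix.one_mulVec] at h5
            exact hw0 ((smul_eq_zero.mp (show (2 : F) • w = 0 by rw [two_smul]; exact eq_neg_iff_add_eq_zero.mp h5)).resolve_left h2)
          have h12 := hM.card_sq_one
          have hfib : ∀ b ∈ Finset.univ.image φ, ((Finset.univ : Finset R).filter fun a => φ a = b).card ≤ 2 := by
            intro b hb
            obtain ⟨s, -, rfl⟩ := Finset.mem_image.mp hb
            rw [← Nat.card_eq_finsetCard]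
            refine le_of_le_of_eq ?_ hC
            refine Nat.card_le_card_of_injective (fun a => ⟨s⁻¹ * a.1, ?_⟩) fun a b e =>
              Subtype.ext (mul_left_cancel (congrArg Subtype.val e))
            have e1 : φ a.1 = φ s := (Finset.mem_filter.mp a.2).2
            have e2 := congrArg Subtype.val e1
            simp only [φ] at e2
            have e3 : (a.1 : GL (Fin 2 ⊕ Fin 2) F) * y⁻¹ * (a.1 : GL (Fin 2 ⊕ Fin 2) F)⁻¹ =
                (s : GL (Fin 2 ⊕ Fin 2) F) * y⁻¹ * (s : GL (Fin 2 ⊕ Fin 2) F)⁻¹ := by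
              apply mul_left_cancel (a := y)
              rw [← mul_assoc, ← mul_assoc, ← mul_assoc, ← mul_assoc]
              exact e2
            have hcm : Commute ((s⁻¹ * a.1 : R) : GL (Fin 2 ⊕ Fin 2) F) y⁻¹ := by
              change _ * _ = _ * _
              rw [Subgroup.coe_mul, Subgroup.coe_inv]
              calc (s : GL (Fin 2 ⊕ Fin 2) F)⁻¹ * a.1 * y⁻¹
                  = (s : GL (Fin 2 ⊕ Fin 2) F)⁻¹ * ((a.1 : GL (Fin 2 ⊕ Fin 2) F) * y⁻¹ * (a.1 : GL (Fin 2 ⊕ Fin 2) F)⁻¹) * a.1 := by group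
                _ = y⁻¹ * ((s : GL (Fin 2 ⊕ Fin 2) F)⁻¹ * a.1) := by rw [e3]; group
            exact (Commute.inv_right_iff.mp hcm).symm
          have hle := Finset.card_le_mul_card_image (Finset.univ : Finset R) 2 hfib
          have him : (Finset.univ.image φ).card ≤ 12 := by
            rw [← h12, ← Nat.card_eq_finsetCard]
            refine Nat.card_le_card_of_injective (fun a => ⟨a.1, ?_⟩) fun a b e => Subtype.ext (congrArg Subtype.val e :)
            obtain ⟨s, -, hs⟩ := Finset.mem_image.mp a.2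
            rw [← hs]
            exact hsq s
          have h32 := hM.card
          rw [Nat.card_eq_fintype_card, ← Finset.card_univ] at h32
          omega
      · have hdvd : r ∣ p * (p ^ 2 - 1) := by
          refine dvd_mul_of_dvd_right ?_ _
          haveI : Fact r.Prime := ⟨hr⟩
          rw [← ZMod.natCast_eq_zero_iff, Nat.cast_sub (Nat.one_le_pow _ _ hp.pos), Nat.cast_pow, Nat.cast_one,
            sub_eq_zero]
          have hp0 : (p : ZMod r) ≠ 0 := fun e => hrp ((Nat.prime_dvd_prime_iff_eq hr hp).mp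
            ((ZMod.natCast_eq_zero_iff _ _).mp e))
          rcases hr35 with rfl | rfl
          · exact ZMod.pow_card_sub_one_eq_one hp0
          · have hd4 : orderOf (p : ZMod 5) ∣ 2 ^ 2 := orderOf_dvd_of_pow_eq_one (ZMod.pow_card_sub_one_eq_one hp0)
            obtain ⟨k, hk, hk'⟩ := (Nat.dvd_prime_pow Nat.prime_two).mp hd4
            refine orderOf_dvd_iff_pow_eq_one.mp ?_
            rw [hk']
            interval_cases k
            · norm_num
            · norm_num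
            · exact absurd hk' (hr5 rfl)
        obtain ⟨x, hxS, hx, hns, t, ht, ht3, ht5⟩ := exists_plane hF hr35 hdvd
        refine ⟨x, hxS, hx, hns, fun g hgS hg => ?_⟩
        obtain ⟨y, hyS, hyN, hyr, hyns, hytr, -⟩ := conj x hxS hx hns g hgS hg
        have hf := formula y hyS hyN hyr
        rw [hytr, ht] at hf
        rcases card_fixed hP h2 hM hyN hyns hr2 hyr with ⟨rfl, hC⟩ | ⟨rfl, hC⟩
        · rw [hC, ht3 rfl] at hf
          apply hrp
          have h3 : ((3 : ℕ) : F) = 0 := (mul_eq_zero.mp (show (2 : F) * ((3 : ℕ) : F) = 0 by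
            push_cast at hf ⊢; linear_combination hf)).resolve_left h2
          exact ((Nat.prime_dvd_prime_iff_eq hp Nat.prime_three).mp ((CharP.cast_eq_zero_iff F p 3).mp h3)).symm
        · rw [hC] at hf
          apply hrp
          have h1 : (t + 2) * (t + 2) = 1 := mul_left_cancel₀ h2 (by push_cast at hf; linear_combination -hf)
          have ht' := ht5 rfl
          have h3 : 3 * t + 4 = 0 := by linear_combination h1 - ht'
          have h5 : ((5 : ℕ) : F) = 0 := by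
            push_cast
            linear_combination -9 * ht' + (3 * t - 1) * h3
          exact ((Nat.prime_dvd_prime_iff_eq hp (by norm_num)).mp ((CharP.cast_eq_zero_iff F p 5).mp h5)).symm
    · haveI : Finite (Cfsg.spGL 2 F) := inferInstance
      obtain ⟨x, hx⟩ := exists_prime_orderOf_dvd_card' (G := Cfsg.spGL 2 F) r
        (hΩ.trans (Subgroup.relIndex_dvd_card _ _))
      have hxr : ((x : GL (Fin 2 ⊕ Fin 2) F) : (Matrix (Fin 2 ⊕ Fin 2) (Fin 2 ⊕ Fin 2) F)) ^ r = 1 := by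
        rw [← Units.val_pow_eq_pow_val, ← SubgroupClass.coe_pow, ← hx, pow_orderOf_eq_one]; rfl
      have hns : ∀ z : F, ((x : GL (Fin 2 ⊕ Fin 2) F) : (Matrix (Fin 2 ⊕ Fin 2) (Fin 2 ⊕ Fin 2) F)) ≠ z • 1 := by
        intro z hz
        rcases scalar_sq x.2 hz with rfl | rfl
        · have : x = 1 := Subtype.ext (Units.ext (by rw [hz, one_smul]; rfl))
          rw [this, orderOf_one] at hx
          exact hr.one_lt.ne hx
        · rw [hz, neg_one_smul, Odd.neg_one_pow (hr.odd_of_ne_two hr2)] at hxr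
          have h := congrFun (congrFun hxr (Sum.inl 0)) (Sum.inl 0)
          simp at h
          exact h2 (by linear_combination -h)
      refine ⟨x, x.2, hxr, hns, fun g hgS hg => ?_⟩
      obtain ⟨y, hyS, hyN, hyr, hyns, -, -⟩ := conj _ x.2 hxr hns g hgS hg
      rcases card_fixed hP h2 hM hyN hyns hr2 hyr with ⟨rfl, -⟩ | ⟨rfl, -⟩ <;> exact hr35 (by tauto)
  · intro hcase x hxS hxz hns
    obtain ⟨z, hz⟩ := hxz
    have hz1 := scalar_sq (pow_mem hxS r) hz
    rcases hcase with rfl | ⟨rfl, ho⟩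
    · have hxx : (x : (Matrix (Fin 2 ⊕ Fin 2) (Fin 2 ⊕ Fin 2) F)) * x = z • 1 := by rw [← pow_two, ← Units.val_pow_eq_pow_val, hz]
      suffices hconj : ∃ g : (Fin 2 ⊕ Fin 2 → F) →ₗ[F] (Fin 2 ⊕ Fin 2 → F), ∃ t ∈ R, (∀ a b, (stdAlt 2 F).B (g a) (g b) = (stdAlt 2 F).B a b) ∧
          ∀ w, g ((t : (Matrix (Fin 2 ⊕ Fin 2) (Fin 2 ⊕ Fin 2) F)) *ᵥ w) = (x : (Matrix (Fin 2 ⊕ Fin 2) (Fin 2 ⊕ Fin 2) F)) *ᵥ g w by
        obtain ⟨g, t, ht, hgi, hgt⟩ := hconj
        have hgb := SympInvolConj.bijective_of_iso (stdAlt 2 F) hgi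
        let G : (Matrix (Fin 2 ⊕ Fin 2) (Fin 2 ⊕ Fin 2) F) := LinearMap.toMatrix' g
        have hG : ∀ w, G *ᵥ w = g w := fun w => by
          rw [← Matrix.toLin'_apply, Matrix.toLin'_toMatrix']
        have hGu : IsUnit G := by
          rw [← Matrix.mulVec_injective_iff_isUnit]
          intro a b e
          exact hgb.1 (by rw [← hG, ← hG]; exact e)
        refine ⟨hGu.unit, fun a b => ?_, ?_⟩
        · change Cfsg.sympForm 2 F (G *ᵥ a) (G *ᵥ b) = Cfsg.sympForm 2 F a b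
          rw [hG, hG, ← stdAlt_apply, ← stdAlt_apply]
          exact hgi a b
        · have he : hGu.unit⁻¹ * x * hGu.unit = t := by
            rw [mul_assoc, inv_mul_eq_iff_eq_mul]
            refine Units.ext (Matrix.toLin'.injective (LinearMap.ext fun w => ?_))
            simp only [Units.val_mul, Matrix.toLin'_apply, ← Matrix.mulVec_mulVec, IsUnit.unit_spec, hG, hgt]
          rw [he]
          exact Subgroup.le_normalizer ht
      have hiso : ∀ w : GL (Fin 2 ⊕ Fin 2) F, w ∈ Cfsg.spGL 2 F → ∀ a b,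
          (stdAlt 2 F).B ((w : (Matrix (Fin 2 ⊕ Fin 2) (Fin 2 ⊕ Fin 2) F)).mulVecLin a) ((w : (Matrix (Fin 2 ⊕ Fin 2) (Fin 2 ⊕ Fin 2) F)).mulVecLin b) = (stdAlt 2 F).B a b := fun w hw a b => by
        simp only [Matrix.mulVecLin_apply, stdAlt_apply]; exact hw a b
      have happ : ∀ (w : (Matrix (Fin 2 ⊕ Fin 2) (Fin 2 ⊕ Fin 2) F)) (c : F), w * w = c • 1 → ∀ a, w.mulVecLin (w.mulVecLin a) = c • a := fun w c hw a => by
        simp only [Matrix.mulVecLin_apply, Matrix.mulVec_mulVec, hw, Matrix.smul_mulVec, Matrix.one_mulVec]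
      obtain ⟨u, hu, huu⟩ := hM.exists_involution
      have huu' : ((u : GL (Fin 2 ⊕ Fin 2) F) : (Matrix (Fin 2 ⊕ Fin 2) (Fin 2 ⊕ Fin 2) F)) * ((u : GL (Fin 2 ⊕ Fin 2) F) : (Matrix (Fin 2 ⊕ Fin 2) (Fin 2 ⊕ Fin 2) F)) = 1 := by
        simpa using congrArg (fun w : R => ((w : GL (Fin 2 ⊕ Fin 2) F) : (Matrix (Fin 2 ⊕ Fin 2) (Fin 2 ⊕ Fin 2) F))) huu
      have hus : ∀ z' : F, ((u : GL (Fin 2 ⊕ Fin 2) F) : (Matrix (Fin 2 ⊕ Fin 2) (Fin 2 ⊕ Fin 2) F)) ≠ z' • 1 := by
        intro z' h'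
        rcases scalar_sq (hRf u.2) h' with rfl | rfl
        · exact hu (Or.inl (Subtype.ext (Units.ext (by rw [h', one_smul]; rfl))))
        · exact hu (Or.inr (Subtype.ext (Units.ext (by rw [h', neg_one_smul]; rfl))))
      rcases hz1 with rfl | rfl
      · have hdim : ∀ w : GL (Fin 2 ⊕ Fin 2) F, w ∈ Cfsg.spGL 2 F → (w : (Matrix (Fin 2 ⊕ Fin 2) (Fin 2 ⊕ Fin 2) F)) * w = 1 → (∀ z' : F, (w : (Matrix (Fin 2 ⊕ Fin 2) (Fin 2 ⊕ Fin 2) F)) ≠ z' • 1) →
            finrank F (LinearMap.range ((w : (Matrix (Fin 2 ⊕ Fin 2) (Fin 2 ⊕ Fin 2) F)).mulVecLin - LinearMap.id)) = 2 := by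
          intro w hw hww hwns
          have hx2 : ∀ a, (w : (Matrix (Fin 2 ⊕ Fin 2) (Fin 2 ⊕ Fin 2) F)).mulVecLin ((w : (Matrix (Fin 2 ⊕ Fin 2) (Fin 2 ⊕ Fin 2) F)).mulVecLin a) = a := fun a => by
            rw [happ _ 1 (by rw [hww, one_smul]), one_smul]
          rw [SympInvolConj.range_sub_one h2 hx2]
          have hev := SympInvolConj.even_finrank (stdAlt 2 F) (SympInvolConj.ndOn_minus (stdAlt 2 F) h2 hx2 (hiso w hw))
          have hle := Submodule.finrank_le (LinearMap.ker ((w : (Matrix (Fin 2 ⊕ Fin 2) (Fin 2 ⊕ Fin 2) F)).mulVecLin + LinearMap.id))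
          rw [Module.finrank_fintype_fun_eq_card, Fintype.card_sum, Fintype.card_fin] at hle
          have h0 : finrank F (LinearMap.ker ((w : (Matrix (Fin 2 ⊕ Fin 2) (Fin 2 ⊕ Fin 2) F)).mulVecLin + LinearMap.id)) ≠ 0 := by
            intro e
            apply hwns 1
            refine Matrix.toLin'.injective (LinearMap.ext fun a => ?_)
            have ha : (w : (Matrix (Fin 2 ⊕ Fin 2) (Fin 2 ⊕ Fin 2) F)).mulVecLin a - a ∈ LinearMap.ker ((w : (Matrix (Fin 2 ⊕ Fin 2) (Fin 2 ⊕ Fin 2) F)).mulVecLin + LinearMap.id) := by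
              rw [SympInvolConj.mem_minus, map_sub, hx2, neg_sub]
            rw [Submodule.finrank_eq_zero.mp e, Submodule.mem_bot, sub_eq_zero] at ha
            simpa using ha
          have h4 : finrank F (LinearMap.ker ((w : (Matrix (Fin 2 ⊕ Fin 2) (Fin 2 ⊕ Fin 2) F)).mulVecLin + LinearMap.id)) ≠ 4 := by
            intro e
            apply hwns (-1)
            refine Matrix.toLin'.injective (LinearMap.ext fun a => ?_)
            have ha : a ∈ LinearMap.ker ((w : (Matrix (Fin 2 ⊕ Fin 2) (Fin 2 ⊕ Fin 2) F)).mulVecLin + LinearMap.id) := by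
              rw [Submodule.eq_top_of_finrank_eq (S := LinearMap.ker ((w : (Matrix (Fin 2 ⊕ Fin 2) (Fin 2 ⊕ Fin 2) F)).mulVecLin + LinearMap.id))
                (by rw [e, Module.finrank_fintype_fun_eq_card]; rfl)]
              trivial
            rw [SympInvolConj.mem_minus] at ha
            simpa [Matrix.neg_mulVec] using ha
          obtain ⟨k, hk⟩ := hev
          omega
        obtain ⟨g, hg, hgt⟩ := SympInvolConj.conj_one (stdAlt 2 F) h2
          (x := (x : (Matrix (Fin 2 ⊕ Fin 2) (Fin 2 ⊕ Fin 2) F)).mulVecLin) (t := ((u : GL (Fin 2 ⊕ Fin 2) F) : (Matrix (Fin 2 ⊕ Fin 2) (Fin 2 ⊕ Fin 2) F)).mulVecLin)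
          (fun a => by rw [happ _ 1 hxx, one_smul])
          (fun a => by rw [happ _ 1 (by rw [huu', one_smul]), one_smul])
          (hiso x hxS) (hiso _ (hRf u.2))
          (by rw [hdim x hxS (by rw [hxx, one_smul]) hns, hdim _ (hRf u.2) huu' hus])
        exact ⟨g, u, u.2, hg, hgt⟩
      · obtain ⟨i, -, -, -, -, -, hii, -⟩ := hM.exists_frame
        have hii' : ((i : GL (Fin 2 ⊕ Fin 2) F) : (Matrix (Fin 2 ⊕ Fin 2) (Fin 2 ⊕ Fin 2) F)) * ((i : GL (Fin 2 ⊕ Fin 2) F) : (Matrix (Fin 2 ⊕ Fin 2) (Fin 2 ⊕ Fin 2) F)) = (-1 : F) • 1 := by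
          rw [neg_one_smul]
          simpa using congrArg (fun w : R => ((w : GL (Fin 2 ⊕ Fin 2) F) : (Matrix (Fin 2 ⊕ Fin 2) (Fin 2 ⊕ Fin 2) F))) hii
        obtain ⟨g, hg, hgt⟩ := SympInvolConj.conj_neg_one (stdAlt 2 F) h2 (d := 2) (by simp)
          (x := (x : (Matrix (Fin 2 ⊕ Fin 2) (Fin 2 ⊕ Fin 2) F)).mulVecLin) (t := ((i : GL (Fin 2 ⊕ Fin 2) F) : (Matrix (Fin 2 ⊕ Fin 2) (Fin 2 ⊕ Fin 2) F)).mulVecLin)
          (fun a => by rw [happ _ _ hxx, neg_one_smul])
          (fun a => by rw [happ _ _ hii', neg_one_smul])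
          (hiso x hxS) (hiso _ (hRf i.2))
        exact ⟨g, i, i.2, hg, hgt⟩
    · obtain ⟨y, hyS, hyN, hy5, hy1⟩ := exists_five_mem hP hRf h2 hM
      have hι : Fintype.card (Fin 2 ⊕ Fin 2) = 4 := rfl
      rcases hz1 with rfl | rfl
      · obtain ⟨g, hg, k, hk⟩ := exists_conj_pow hι hF ho (Cfsg.spGL 2 F) hxS hyS
          (Units.ext (by rw [hz, one_smul]; rfl)) hy5 hy1
        exact ⟨g, hg, by rw [hk]; exact pow_mem hyN k⟩
      · obtain ⟨g, hg, k, hk⟩ := exists_conj_pow hι hF ho (Cfsg.spGL 2 F) (x := -x)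
          (by simpa using mul_mem neg_one_mem hxS) hyS
          (Units.ext (by rw [Units.val_pow_eq_pow_val, Units.val_neg, Odd.neg_pow (by decide),
            ← Units.val_pow_eq_pow_val, hz]; simp)) hy5 hy1
        refine ⟨g, hg, ?_⟩
        rw [show g⁻¹ * x * g = -1 * (g⁻¹ * -x * g) by simp, hk]
        exact mul_mem hN1 (pow_mem hyN k)

end Cfsg.Agent.S6002
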